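import Groth.Agent.Algz.K164.LocPro
import Groth.Agent.Algz.K573.BaseRing
import Groth.Agent.Dcoh.PushRestrict
import Groth.Agent.Ega1.QcqsPush

/-!
# Gluing canonical extensions over affine charts

`X` is a Noetherian scheme over `Spec A`, `U ⊆ X` an open and `H` a coherent formal module on `U`.  If `X` is
covered by open immersions `φ : Spec B → X` such that the restriction of `H` to `φ⁻¹ U` canonically
extends to `Spec B`, then `H` extends to `X`.
-/

set_option autoImplicit false
universe u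

open CategoryTheory CategoryTheory.Limits AlgebraicGeometry Opposite
open Groth.Agent.FormalB Groth.Agent.FormalB.ModPow

namespace K164.Chart

section Sect

variable {B : Type u} [CommRing B]

/-- For a system of quasi-coherent modules the system `sectSys` is the direct image. -/
noncomputable def sectSysIso (V : (Spec (CommRingCat.of B)).Opens) [QuasiCompact V.ι]
    (G : ℕᵒᵖ ⥤ (V : Scheme.{u}).Modules) (hG : ∀ n, Coh.IsQCoh (G.obj n)) :
    Algz.sectSys B V G ≅ G ⋙ Scheme.Modules.pushforward V.ι :=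
  NatIso.ofComponents (fun n =>
    haveI h1 : Coh.IsQCoh ((Scheme.Modules.pushforward V.ι).obj (G.obj n)) :=
      Groth.Agent.Ega1.QcqsPush.isQCoh_pushforward V.ι (G.obj n) (hG n)
    haveI h2 : IsIso (Scheme.Modules.fromTildeΓ (R := CommRingCat.of B)
        ((Scheme.Modules.pushforward V.ι).obj (G.obj n))) :=
      Scheme.Modules.isIso_fromTildeΓ_of_isQuasicoherent (R := CommRingCat.of B) _
    (@asIso _ _ _ _ (Scheme.Modules.fromTildeΓ (R := CommRingCat.of B)
        ((Scheme.Modules.pushforward V.ι).obj (G.obj n))) h2))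
    (fun f => (tilde.adjunction (R := CommRingCat.of B)).counit.naturality _)

end Sect

section

variable {A : Type u} [CommRing A] {X : Scheme.{u}} [X.Over (Spec (CommRingCat.of A))]

/-- The direct image of a system restricted along an open immersion `φ : V → X`. -/
noncomputable def pushRestrict {V : Scheme.{u}} (φ : V ⟶ X) [IsOpenImmersion φ] (U : X.Opens)
    (H : ℕᵒᵖ ⥤ (U : Scheme.{u}).Modules) :
    (H ⋙ Scheme.Modules.pushforward U.ι) ⋙ Scheme.Modules.restrictFunctor φ ≅
      (H ⋙ Scheme.Modules.restrictFunctor (φ ∣_ U)) ⋙ Scheme.Modules.pushforward (φ ⁻¹ᵁ U).ι :=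
  Functor.isoWhiskerLeft H (Groth.Agent.Dcoh.PushRestrict.pushRestrictIsoOfIsPullback U.ι (φ ⁻¹ᵁ U).ι
    (φ ∣_ U) φ (isPullback_morphismRestrict φ U))

/-- Gluing canonical extensions over charts `Spec B → X`. -/
theorem extends_of_canonicallyExtends [IsNoetherian X] (I : Ideal A) (U : X.Opens)
    (H : ℕᵒᵖ ⥤ (U : Scheme.{u}).Modules) (hH : Formal.IsCohFormal I H)
    (h : ∀ x : X, ∃ (B : Type u) (_ : CommRing B) (_ : Algebra A B) (φ : Spec (CommRingCat.of B) ⟶ X)
      (_ : IsOpenImmersion φ), x ∈ Set.range φ.base ∧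
      φ ≫ (X ↘ Spec (CommRingCat.of A)) = Spec.map (CommRingCat.ofHom (algebraMap A B)) ∧
      Algz.CanonicallyExtends B (I.map (algebraMap A B)) (φ ⁻¹ᵁ U)
        (H ⋙ Scheme.Modules.restrictFunctor (φ ∣_ U))) :
    Algz.Extends I U H := by
  refine LocPro.extends_of_local I U H hH fun x => ?_
  obtain ⟨B, _, _, φ, hφ, hx, hφA, G, hG, hpro⟩ := h x
  refine ⟨Spec (CommRingCat.of B), φ, hφ, G, hx, ?_, ?_⟩
  · letI : (Spec (CommRingCat.of B)).Over (Spec (CommRingCat.of A)) :=
      ⟨φ ≫ (X ↘ Spec (CommRingCat.of A))⟩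
    letI : (Spec (CommRingCat.of B)).Over (Spec (CommRingCat.of B)) :=
      ⟨𝟙 (Spec (CommRingCat.of B))⟩
    have hc : K573.BaseRing.Compat A B (Spec (CommRingCat.of B)) := by
      change 𝟙 _ ≫ _ = φ ≫ _
      rw [Category.id_comp, hφA]
    exact (K573.BaseRing.isCohFormal_iff_map hc G I).2 hG
  · have : IsLocallyNoetherian (Spec (CommRingCat.of B)) := isLocallyNoetherian_of_isOpenImmersion φ
    have : IsNoetherian (Spec (CommRingCat.of B)) := { }
    have hqc : QuasiCompact (φ ⁻¹ᵁ U).ι := inferInstance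
    have hq : ∀ n, Coh.IsQCoh ((H ⋙ Scheme.Modules.restrictFunctor (φ ∣_ U)).obj n) := fun n =>
      (Groth.Agent.PerfA.CohSerre.isCoh_restrict (φ ∣_ U) (hH.1 n.unop)).1
    exact K573.ProIso.isProIsomorphic_iso_left hpro
      (pushRestrict φ U H ≪≫ (sectSysIso (φ ⁻¹ᵁ U) _ hq).symm)

end

end K164.Chart
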