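import Groth.Agent.Algz.K164.MainA
import Groth.Agent.Algz.K572.ExtOne
import Groth.Agent.Algz.K573.BlowGeo
import Groth.Agent.FormalA.ConnCd

/-!
# Affine charts on which an ideal becomes principal
-/

set_option autoImplicit false
attribute [-instance] AlgebraicGeometry.specOverSpec
universe u

open CategoryTheory CategoryTheory.Limits AlgebraicGeometry Opposite TopologicalSpace
open Groth.Agent.FormalB.ModPow Groth.Agent.FormalB.ModPowAff

namespace K164.Cov

theorem radical_map_congr {R S : Type u} [CommRing R] [CommRing S] (f : R →+* S) {J K : Ideal R}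
    (h : J.radical = K.radical) : (J.map f).radical = (K.map f).radical := by
  have key : ∀ {J K : Ideal R}, J.radical = K.radical → (J.map f).radical ≤ (K.map f).radical := by
    intro J K h
    refine Ideal.radical_le_radical_iff.2 ?_
    rw [Ideal.map_le_iff_le_comap]
    refine Ideal.le_radical.trans ?_
    rw [h]
    exact (Ideal.map_le_iff_le_comap.1 (Ideal.map_radical_le f))
  exact le_antisymm (key h) (key h.symm)

theorem toΓ_factor {A : Type u} [CommRing A] {X : Scheme.{u}} [X.Over (Spec (CommRingCat.of A))]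
    {V : X.Opens} (hV : IsAffineOpen V) {B : Type u} [CommRing B] [Algebra A B]
    (ψ : Spec Γ(X, V) ⟶ Spec (CommRingCat.of B))
    (h : hV.fromSpec ≫ (X ↘ Spec (CommRingCat.of A)) =
      ψ ≫ Spec.map (CommRingCat.ofHom (algebraMap A B))) :
    ∃ g : B →+* Γ(X, V), toΓ A X V = g.comp (algebraMap A B) := by
  refine ⟨(Spec.preimage ψ).hom, ?_⟩
  have h1 : Spec.map (CommRingCat.ofHom (toΓ A X V)) =
      Spec.map (CommRingCat.ofHom (algebraMap A B) ≫ Spec.preimage ψ) := by
    rw [Spec.map_comp, Spec.map_preimage, ← h]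
    exact (K573.BlowGeo.glob_fromSpec_comp (X ↘ Spec (CommRingCat.of A)) hV).symm
  have h2 := Spec.map_injective h1
  exact congrArg CommRingCat.Hom.hom h2

theorem cdLE_one {B : Type u} [CommRing B] [IsNoetherianRing B] {I : Ideal B} {t : B}
    (h : I.radical = (Ideal.span {t}).radical) : LocCoh.CdLE B I 1 := by
  have h1 := Groth.Agent.S0326.result B {t}
  rw [Finset.card_singleton, Finset.coe_singleton] at h1
  exact Groth.Agent.FormalA.ConnCd.cdLE_of_radical_eq h.symm h1

/-- Charts of a modification on which an ideal becomes principal. -/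
def HasCharts {A : Type u} [CommRing A] (J : Ideal A) {X' : Scheme.{u}}
    (b : X' ⟶ Spec (CommRingCat.of A)) : Prop :=
  ∀ x' : X', ∃ (B : Type u) (_ : CommRing B) (_ : Algebra A B)
    (φ : Spec (CommRingCat.of B) ⟶ X') (_ : IsOpenImmersion φ) (t : B), x' ∈ Set.range φ.base ∧
    φ ≫ b = Spec.map (CommRingCat.ofHom (algebraMap A B)) ∧ J.map (algebraMap A B) = Ideal.span {t}

theorem hcov (A : Type u) [CommRing A] [IsNoetherianRing A]
    (hdc : ∃ ω : Dual.D A, Dual.IsDualizing A ω) (I J : Ideal A) (hIJ : I.radical = J.radical)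
    {X' : Scheme.{u}} [X'.Over (Spec (CommRingCat.of A))] (b : X' ⟶ Spec (CommRingCat.of A))
    (hXb : X' ↘ Spec (CommRingCat.of A) = b) [LocallyOfFiniteType b] (hch : HasCharts J b)
    (U₁ : X'.Opens) :
    ∀ x : (U₁ : Scheme.{u}), ∃ V : (U₁ : Scheme.{u}).Opens, x ∈ V ∧ IsAffineOpen V ∧
      (∃ ω : Dual.D Γ(U₁, V), Dual.IsDualizing Γ(U₁, V) ω) ∧
      LocCoh.CdLE Γ(U₁, V) (I.map (Groth.Agent.FormalB.ModPowAff.toΓ A (U₁ : Scheme.{u}) V)) 1 := by
  intro x
  have hov : (U₁ : Scheme.{u}) ↘ Spec (CommRingCat.of A) = U₁.ι ≫ b := by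
    rw [← hXb]; rfl
  have hft : LocallyOfFiniteType ((U₁ : Scheme.{u}) ↘ Spec (CommRingCat.of A)) := by
    rw [hov]; infer_instance
  have hLN : IsLocallyNoetherian (U₁ : Scheme.{u}) :=
    LocallyOfFiniteType.isLocallyNoetherian ((U₁ : Scheme.{u}) ↘ Spec (CommRingCat.of A))
  obtain ⟨B, _, _, φ, hφo, t, hx, hφ, ht⟩ := hch (U₁.ι x)
  have hxW : x ∈ U₁.ι ⁻¹ᵁ φ.opensRange := hx
  obtain ⟨V, hV, hxV, hVW⟩ := exists_isAffineOpen_mem_and_subset (x := x) hxW
  have hrange : Set.range (hV.fromSpec ≫ U₁.ι) ⊆ Set.range φ := by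
    rintro _ ⟨y, rfl⟩
    have h1 : hV.fromSpec y ∈ (V : Set (U₁ : Scheme.{u})) := by
      rw [← hV.range_fromSpec]; exact ⟨y, rfl⟩
    exact hVW h1
  obtain ⟨g, hg⟩ := toΓ_factor hV (IsOpenImmersion.lift φ (hV.fromSpec ≫ U₁.ι) hrange) (by
    rw [hov, ← hφ, IsOpenImmersion.lift_fac_assoc, Category.assoc])
  have hN : IsNoetherianRing Γ((U₁ : Scheme.{u}), V) :=
    Groth.Agent.FormalB.FormalLoc.isNoetherianRing_sections hV
  refine ⟨V, hxV, hV, ?_, ?_⟩
  · let _ : Algebra A Γ((U₁ : Scheme.{u}), V) := (toΓ A (U₁ : Scheme.{u}) V).toAlgebra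
    have hft' : Algebra.FiniteType A Γ((U₁ : Scheme.{u}), V) := K572.ExtOne.finiteType_toΓ hV
    obtain ⟨ω, hω⟩ := hdc
    exact Groth.Agent.S0377.result A ω hω Γ((U₁ : Scheme.{u}), V)
  · refine cdLE_one (t := g t) ?_
    rw [radical_map_congr _ hIJ, hg, ← Ideal.map_map, ht, Ideal.map_span, Set.image_singleton]

theorem hcov_chart (A : Type u) [CommRing A] [IsNoetherianRing A]
    (hdc : ∃ ω : Dual.D A, Dual.IsDualizing A ω) (I J : Ideal A) (hIJ : I.radical = J.radical)
    {X' : Scheme.{u}} (b : X' ⟶ Spec (CommRingCat.of A)) [LocallyOfFiniteType b]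
    (B : Type u) [CommRing B] [Algebra A B] (φ : Spec (CommRingCat.of B) ⟶ X') [IsOpenImmersion φ]
    (t : B) (hφ : φ ≫ b = Spec.map (CommRingCat.ofHom (algebraMap A B)))
    (ht : J.map (algebraMap A B) = Ideal.span {t}) :
    (∃ ω : Dual.D B, Dual.IsDualizing B ω) ∧ LocCoh.CdLE B (I.map (algebraMap A B)) 1 ∧
      IsNoetherianRing B := by
  have h1 : LocallyOfFiniteType (Spec.map (CommRingCat.ofHom (algebraMap A B))) := by
    rw [← hφ]; infer_instance
  have h2 : (algebraMap A B).FiniteType := by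
    rw [HasRingHomProperty.Spec_iff (P := @LocallyOfFiniteType)] at h1
    exact h1
  have hft : Algebra.FiniteType A B := by
    rwa [RingHom.finiteType_algebraMap] at h2
  have hN : IsNoetherianRing B := Algebra.FiniteType.isNoetherianRing A B
  obtain ⟨ω, hω⟩ := hdc
  refine ⟨Groth.Agent.S0377.result A ω hω B, ?_, hN⟩
  refine cdLE_one (t := t) ?_
  rw [radical_map_congr _ hIJ, ht]

end K164.Cov
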