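import Groth.Agent.Algz.K572.Dist2
import Groth.Agent.Algz.K572.DeltaYZ
import Groth.Agent.Ega4A.EquidimFlat

/-!
# The distance function and immediate specializations

For `x ⤳ y` with `codim(v in x) ≤ codim(v in y) + 1` for all specializations `v` of `y`, one has
`δ_Z(x) ≤ δ_Z(y) + 1`.
-/

set_option autoImplicit false
universe u

open CategoryTheory AlgebraicGeometry TopologicalSpace
open Algz K572.Dist

namespace K164.DeltaImm

section Top

variable {Y : Type u} [TopologicalSpace Y] {Z : Set Y} {x y : Y} {k : ℕ}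

/-- Replace the generic point of the last `W` by a generization. -/
def gen (S : DSystem Z y k) (h : x ⤳ y) : DSystem Z x k where
  v := S.v
  w := Fin.snoc (α := fun _ => Y) (Fin.init S.w) x
  spec := by
    intro i
    induction i using Fin.lastCases with
    | last =>
      have h1 := S.spec (Fin.last k)
      rw [S.last_eq] at h1
      simpa using h.trans h1
    | cast i => simpa [Fin.init] using S.spec i.castSucc
  spec_succ := by
    intro i
    rw [Fin.snoc_castSucc]
    exact S.spec_succ i
  start_mem := S.start_mem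
  last_eq := by simp

theorem gen_delta (S : DSystem Z y k) (h : x ⤳ y)
    (hcat : ∀ (v : Y) (hv : y ⤳ v), codimPt x v (h.trans hv) ≤ codimPt y v hv + 1) :
    (gen S h).delta ≤ S.delta + 1 := by
  have hc : ∀ j : Fin k, (gen S h).c j.castSucc = S.c j.castSucc := fun j =>
    codimPt_congr _ _ (by simp [gen, Fin.init]) rfl
  have hcl : (gen S h).c (Fin.last k) ≤ S.c (Fin.last k) + 1 := by
    have h1 : y ⤳ S.v (Fin.last k) := by
      have h2 := S.spec (Fin.last k)
      rwa [S.last_eq] at h2
    have e1 : (gen S h).c (Fin.last k) = codimPt x (S.v (Fin.last k)) (h.trans h1) :=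
      codimPt_congr _ _ (by simp [gen]) rfl
    have e2 : S.c (Fin.last k) = codimPt y (S.v (Fin.last k)) h1 :=
      codimPt_congr _ _ S.last_eq rfl
    rw [e1, e2]
    exact hcat _ h1
  have hb : ∀ j : Fin k, (gen S h).b j = S.b j := fun j =>
    codimPt_congr _ _ (by simp [gen, Fin.init]) rfl
  have key : (gen S h).delta ≤ (k : ℕ∞) + ((Finset.univ.sup fun i : Fin (k + 1) =>
      (∑ j ∈ Finset.univ.filter (fun j : Fin (k + 1) => i ≤ j), S.c j) -
        ∑ j ∈ Finset.univ.filter (fun j : Fin k => i.val ≤ j.val), S.b j) + 1) := by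
    refine delta_le _ fun i => ?_
    have h1 : ∑ j ∈ Finset.univ.filter (fun j : Fin (k + 1) => i ≤ j), (gen S h).c j ≤
        (∑ j ∈ Finset.univ.filter (fun j : Fin (k + 1) => i ≤ j), S.c j) + 1 := by
      rw [Finset.sum_filter, Finset.sum_filter, Fin.sum_univ_castSucc, Fin.sum_univ_castSucc,
        if_pos (Fin.le_last i), if_pos (Fin.le_last i), add_assoc]
      simp only [hc]
      gcongr
    have h2 : ∑ j ∈ Finset.univ.filter (fun j : Fin k => i.val ≤ j.val), (gen S h).b j =
        ∑ j ∈ Finset.univ.filter (fun j : Fin k => i.val ≤ j.val), S.b j := by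
      simp only [hb]
    rw [h2]
    refine (tsub_le_tsub_right h1 _).trans ?_
    refine le_trans ?_ (add_le_add_left (Finset.le_sup (f := fun i : Fin (k + 1) =>
      (∑ j ∈ Finset.univ.filter (fun j : Fin (k + 1) => i ≤ j), S.c j) -
        ∑ j ∈ Finset.univ.filter (fun j : Fin k => i.val ≤ j.val), S.b j) (Finset.mem_univ i)) 1)
    rw [tsub_le_iff_right, add_right_comm]
    gcongr
    exact le_tsub_add
  refine key.trans ?_
  rw [← add_assoc]
  rfl

theorem deltaZ_le_add_one (h : x ⤳ y)
    (hcat : ∀ (v : Y) (hv : y ⤳ v), codimPt x v (h.trans hv) ≤ codimPt y v hv + 1) :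
    deltaZ Z x ≤ deltaZ Z y + 1 := by
  have h1 : ∀ (k : ℕ) (S : DSystem Z y k), deltaZ Z x ≤ S.delta + 1 := fun k S =>
    (deltaZ_le (gen S h)).trans (gen_delta S h hcat)
  have h2 : deltaZ Z x - 1 ≤ deltaZ Z y := by
    refine le_deltaZ fun k S => ?_
    rw [tsub_le_iff_right]
    exact h1 k S
  rwa [tsub_le_iff_right] at h2

/-- Codimensions are unchanged along an inducing map whose image is stable under specialization. -/
theorem codimPt_inducing' {X : Type u} [TopologicalSpace X] {f : X → Y} (hf : Topology.IsInducing f)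
    {w v : X} (h : w ⤳ v) (hsp : ∀ (a : X) (y : Y), f a ⤳ y → y ∈ Set.range f) :
    codimPt (f w) (f v) (h.map hf.continuous) = codimPt w v h := by
  unfold codimPt
  symm
  let F : Set.Ici (Specialization.toEquiv v) → Set.Ici (Specialization.toEquiv (f v)) :=
    fun x => ⟨Specialization.toEquiv (f (Specialization.ofEquiv x.1)),
      Specialization.toEquiv_le_toEquiv.mpr
        ((Specialization.toEquiv_le_toEquiv.mp (show Specialization.toEquiv v ≤
          Specialization.toEquiv (Specialization.ofEquiv x.1) from x.2)).map hf.continuous)⟩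
  have hF : ∀ a b, F a ≤ F b ↔ a ≤ b := by
    intro a b
    change Specialization.toEquiv (f (Specialization.ofEquiv a.1)) ≤
      Specialization.toEquiv (f (Specialization.ofEquiv b.1)) ↔
      Specialization.toEquiv (Specialization.ofEquiv a.1) ≤
        Specialization.toEquiv (Specialization.ofEquiv b.1)
    rw [Specialization.toEquiv_le_toEquiv, Specialization.toEquiv_le_toEquiv, hf.specializes_iff]
  have hFm : StrictMono F := by
    intro a b hab
    rw [lt_iff_le_not_ge] at hab ⊢
    rwa [hF, hF]
  refine Order.height_eq_of_strictMono F hFm ?_ ⟨Specialization.toEquiv w, _⟩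
  rintro a ⟨b, hb⟩ hba
  have h1 : f (Specialization.ofEquiv a.1) ⤳ Specialization.ofEquiv b :=
    Specialization.toEquiv_le_toEquiv.mp (show b ≤ (F a).1 from hba.le)
  obtain ⟨x, hx⟩ := hsp _ _ h1
  have hx' : Specialization.toEquiv (f x) = b := by rw [hx]; rfl
  subst hx'
  have hxv : x ⤳ v := hf.specializes_iff.mp (Specialization.toEquiv_le_toEquiv.mp hb)
  refine ⟨⟨Specialization.toEquiv x, Specialization.toEquiv_le_toEquiv.mpr hxv⟩, ?_, rfl⟩
  rw [lt_iff_le_not_ge, ← hF, ← hF, ← lt_iff_le_not_ge]
  exact hba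

end Top

section Scheme

variable {X : Scheme.{u}} [IsLocallyNoetherian X]

/-- Immediate specializations in a scheme with catenary local rings. -/
theorem codimPt_imm (hcat : ∀ x : X, CAlg.IsCatenary (X.presheaf.stalk x)) {x y v : X} (h : x ⤳ y)
    (hne : x ≠ y) (himm : ∀ z : X, x ⤳ z → z ⤳ y → z = x ∨ z = y) (hv : y ⤳ v) :
    codimPt x v (h.trans hv) = codimPt y v hv + 1 := by
  obtain ⟨P, hP⟩ : ∃ P : PrimeSpectrum (X.presheaf.stalk v), (X.fromSpecStalk v).base P = x := by
    have h0 : x ∈ Set.range (X.fromSpecStalk v).base := by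
      rw [Scheme.range_fromSpecStalk]; exact h.trans hv
    exact h0
  obtain ⟨Q, hQ⟩ : ∃ Q : PrimeSpectrum (X.presheaf.stalk v), (X.fromSpecStalk v).base Q = y := by
    have h0 : y ∈ Set.range (X.fromSpecStalk v).base := by
      rw [Scheme.range_fromSpecStalk]; exact hv
    exact h0
  have hf : Topology.IsEmbedding (X.fromSpecStalk v).base :=
    (inferInstance : IsPreimmersion (X.fromSpecStalk v)).isEmbedding
  have hPQ : P ⋖ Q := by
    have h1 : P ⤳ Q := hf.isInducing.specializes_iff.mp (by rw [hP, hQ]; exact h)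
    refine ⟨lt_of_le_of_ne ((PrimeSpectrum.le_iff_specializes _ _).2 h1) ?_, fun R hPR hRQ => ?_⟩
    · rintro rfl
      exact hne (hP.symm.trans hQ)
    · have h2 : x ⤳ (X.fromSpecStalk v).base R := by
        rw [← hP]
        exact ((PrimeSpectrum.le_iff_specializes _ _).1 hPR.le).map (X.fromSpecStalk v).continuous
      have h3 : (X.fromSpecStalk v).base R ⤳ y := by
        rw [← hQ]
        exact ((PrimeSpectrum.le_iff_specializes _ _).1 hRQ.le).map (X.fromSpecStalk v).continuous
      rcases himm _ h2 h3 with h4 | h4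
      · rw [← hP] at h4
        exact hPR.ne (hf.injective h4).symm
      · rw [← hQ] at h4
        exact hRQ.ne (hf.injective h4)
  have h1 := Groth.Agent.Ega4A.EquidimFlat.dim_quotient_covBy (hcat v) hPQ
  rw [← K572.Dist2.codimPt_eq_ringKrullDim X x v (h.trans hv) P hP,
    ← K572.Dist2.codimPt_eq_ringKrullDim X y v hv Q hQ] at h1
  exact_mod_cast h1

/-- **Immediate specializations and the distance function** on a subspace stable under
specialization. -/
theorem deltaZ_imm (hcat : ∀ x : X, CAlg.IsCatenary (X.presheaf.stalk x)) {S : Set X}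
    (hS : StableUnderSpecialization S) (Z : Set S) (x y : S) (h : x.1 ⤳ y.1) (hne : x.1 ≠ y.1)
    (himm : ∀ z : X, x.1 ⤳ z → z ⤳ y.1 → z = x.1 ∨ z = y.1) : deltaZ Z x ≤ deltaZ Z y + 1 := by
  have hi : Topology.IsInducing (Subtype.val : S → X) := Topology.IsInducing.subtypeVal
  have hr : ∀ (a : S) (z : X), a.1 ⤳ z → z ∈ Set.range (Subtype.val : S → X) := fun a z haz =>
    ⟨⟨z, hS haz a.2⟩, rfl⟩
  refine deltaZ_le_add_one (hi.specializes_iff.mp h) fun v hv => ?_
  rw [← codimPt_inducing' hi _ hr, ← codimPt_inducing' hi _ hr]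
  exact (codimPt_imm hcat h hne himm (hv.map hi.continuous)).le

end Scheme

end K164.DeltaImm
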