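import Groth.Agent.Algz.K573.KerCoker
import Groth.Agent.Sga2lef.H96.ModSysFormal
import Groth.Agent.PerfA.CohSerre
import Groth.Agent.FormalB.PpFinal
import Groth.Agent.S0004
import Groth.Agent.S0831

/-!
# The complete case

`A` Noetherian and `I`-adically complete, `b : X → Spec A` proper and an isomorphism outside `V(I)`.
If `G` is a coherent formal module on an open `U` of `Spec A` whose pullback to `b⁻¹ U` is, up to kernels and
cokernels killed by a power of `I`, a coherent formal module which extends to `X`, then `G` is the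
completion of a coherent module on `U`.
-/

set_option autoImplicit false
attribute [-instance] AlgebraicGeometry.specOverSpec
universe u

open CategoryTheory CategoryTheory.Limits AlgebraicGeometry Opposite
open Groth.Agent.FormalB.ModPow K573

namespace K164.EndA

section Kill

variable {A : Type u} [CommRing A] {X : Scheme.{u}} [X.Over (Spec (CommRingCat.of A))]

/-- The ideal sheaf generated by `J`. -/
noncomputable abbrev gen (J : Ideal A) (X : Scheme.{u}) [X.Over (Spec (CommRingCat.of A))] : X.IdealSheafData :=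
  (Spec.map (CommRingCat.ofHom (Ideal.Quotient.mk J))).ker.comap (X ↘ Spec (CommRingCat.of A))

theorem kerCoker_of_gen (J : Ideal A) {F G : ℕᵒᵖ ⥤ X.Modules} (α : F ⟶ G)
    (h : Formal2.KerCokerKilledByPow (gen J X) α) : Formal2.KerCokerKilledByIPow J α := by
  obtain ⟨t, ht⟩ := h
  have hg := (Groth.Agent.Sga2lef.H96.ModSysFormal.isGenBy_comap (X := X) J).pow (t + 1)
  exact ⟨t, fun n => ⟨hg.killedBy (ht n).1, hg.killedBy (ht n).2⟩⟩

theorem mem_support_gen (J : Ideal A) (x : X) :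
    x ∈ (gen J X).support ↔ (X ↘ Spec (CommRingCat.of A)) x ∈ PrimeSpectrum.zeroLocus (R := A) (J : Set A) := by
  unfold gen
  rw [← SetLike.mem_coe, Scheme.IdealSheafData.support_comap]
  have h1 : ((Spec.map (CommRingCat.ofHom (Ideal.Quotient.mk J))).ker.support : Set (Spec (CommRingCat.of A))) =
    PrimeSpectrum.zeroLocus (R := A) J := by
    rw [Scheme.Hom.support_ker]
    have h2 : Set.range (Spec.map (CommRingCat.ofHom (Ideal.Quotient.mk J))) =
      PrimeSpectrum.zeroLocus (R := A) J := by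
      refine (range_comap_of_surjective _ (Ideal.Quotient.mk J) Ideal.Quotient.mk_surjective).trans ?_
      rw [Ideal.mk_ker]
    rw [h2]
    exact (PrimeSpectrum.isClosed_zeroLocus _).closure_eq
  change (X ↘ Spec (CommRingCat.of A)) x ∈ ((Spec.map (CommRingCat.ofHom (Ideal.Quotient.mk J))).ker.support : Set (Spec (CommRingCat.of A))) ↔ _
  rw [h1]
  exact Iff.rfl

theorem le_preimage (I : Ideal A) (U : (Spec (CommRingCat.of A)).Opens) :
    (gen I (U : Scheme.{u})).support.compl ≤ U.ι ⁻¹ᵁ (LocCoh.puncturedOpen A I) := by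
  intro x hx
  change x ∉ (gen I (U : Scheme.{u})).support at hx
  rw [mem_support_gen] at hx
  exact hx

end Kill

/-- Isomorphism outside `V(I)`, after base change. -/
theorem isIso_restrict {X Y Z W : Scheme.{u}}
    {g : Z ⟶ X} {c : Z ⟶ W} {b : X ⟶ Y} {f : W ⟶ Y} (hp : IsPullback g c b f) (D : Y.Opens) (D' : W.Opens)
    (hD : D' ≤ f ⁻¹ᵁ D) (hb : IsIso (b ∣_ D)) : IsIso (c ∣_ D') := by
  have h1 : IsPullback ((c ⁻¹ᵁ D').ι ≫ g) (c ∣_ D') b (D'.ι ≫ f) :=
    ((isPullback_morphismRestrict c D').flip.paste_horiz hp)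
  have hr : Set.range (D'.ι ≫ f) ⊆ Set.range D.ι := by
    rintro _ ⟨x, rfl⟩
    rw [Scheme.Opens.range_ι]
    exact hD x.2
  have h2 : D'.ι ≫ f = IsOpenImmersion.lift D.ι (D'.ι ≫ f) hr ≫ D.ι :=
    (IsOpenImmersion.lift_fac _ _ _).symm
  rw [h2] at h1
  have h3 := h1.of_right' (isPullback_morphismRestrict b D).flip
  exact h3.isIso_snd_of_isIso

/-- The complete case. -/
theorem exists_completion (A : Type u) [CommRing A] [IsNoetherianRing A] (I : Ideal A) [IsAdicComplete I A]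
    (U : (Spec (CommRingCat.of A)).Opens) (G : ℕᵒᵖ ⥤ (U : Scheme.{u}).Modules)
    (hG : Formal.IsCohFormal I G) (X : Scheme.{u}) [X.Over (Spec (CommRingCat.of A))]
    (b : X ⟶ Spec (CommRingCat.of A)) [IsProper b] (hXb : X ↘ Spec (CommRingCat.of A) = b)
    (hb : IsIso (b ∣_ LocCoh.puncturedOpen A I))
    (H : ℕᵒᵖ ⥤ ((b ⁻¹ᵁ U : X.Opens) : Scheme.{u}).Modules)
    (hH : Formal.IsCohFormal I H)
    (α : G ⋙ Scheme.Modules.pullback (b ∣_ U) ⟶ H)
    (hα : Formal2.KerCokerKilledByIPow I α)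
    (hext : Algz.Extends I (b ⁻¹ᵁ U) H) :
    ∃ M : (U : Scheme.{u}).Modules, Coh.IsCoh M ∧ Nonempty (Formal.completion I M ≅ G) := by
  obtain ⟨G', hG', ⟨e⟩⟩ := hext
  have hpr : IsProper (X ↘ Spec (CommRingCat.of A)) := by rw [hXb]; infer_instance
  obtain ⟨M, hM, ⟨eM⟩⟩ := (Groth.Agent.S0004.result A I X).2 G' hG'
  have nA : IsNoetherian (Spec (CommRingCat.of A)) := inferInstance
  have lX : IsLocallyNoetherian X := LocallyOfFiniteType.isLocallyNoetherian b
  have cX : CompactSpace X := QuasiCompact.compactSpace_of_compactSpace b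
  have nX : IsNoetherian X := {}
  have nU : IsNoetherian (U : Scheme.{u}) := EquivBC.isNoetherian_opens U
  have nV : IsNoetherian ((b ⁻¹ᵁ U : X.Opens) : Scheme.{u}) := EquivBC.isNoetherian_opens _
  have hb1 : (b ∣_ U) ≫ ((U : Scheme.{u}) ↘ Spec (CommRingCat.of A)) =
      ((b ⁻¹ᵁ U : X.Opens) : Scheme.{u}) ↘ Spec (CommRingCat.of A) := by
    change (b ∣_ U) ≫ U.ι ≫ 𝟙 _ = (b ⁻¹ᵁ U).ι ≫ (X ↘ Spec (CommRingCat.of A))
    rw [hXb, Category.comp_id, morphismRestrict_ι]
  have e1 : Formal.completion I ((Scheme.Modules.restrictFunctor (b ⁻¹ᵁ U).ι).obj M) ≅ H :=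
    Compl.restrictCompletionIso (b ⁻¹ᵁ U).ι rfl I M ≪≫
      Functor.isoWhiskerRight eM (Scheme.Modules.restrictFunctor (b ⁻¹ᵁ U).ι) ≪≫ e
  have hF : Formal.IsCohFormal I (G ⋙ Scheme.Modules.pullback (b ∣_ U)) := by
    rw [isCohFormal_iff] at hG ⊢
    exact ⟨fun n => Groth.Agent.FormalB.PullCoh.isCoh_pullback (b ∣_ U) (hG.1 n),
      Groth.Agent.FormalB.PullSys.pullback_isFormal (b ∣_ U) hb1 hG.2⟩
  obtain ⟨M₂, hM₂, ⟨e₂⟩⟩ := (KerCoker.exists_completion_iff hF hH α hα).2
    ⟨_, Groth.Agent.PerfA.CohSerre.isCoh_restrict (b ⁻¹ᵁ U).ι hM, ⟨e1⟩⟩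
  have hp : IsProper (b ∣_ U) := IsZariskiLocalAtTarget.restrict ‹_› U
  have hsup : IsIso ((b ∣_ U) ∣_ (gen I (U : Scheme.{u})).support.compl) := by
    exact isIso_restrict (isPullback_morphismRestrict b U).flip (LocCoh.puncturedOpen A I) _
      (le_preimage I U) hb
  obtain ⟨α₂, hα₂⟩ := Groth.Agent.S0831.result A I ((b ⁻¹ᵁ U : X.Opens) : Scheme.{u}) (U : Scheme.{u})
    (b ∣_ U) hb1 (gen I (U : Scheme.{u})) hsup G hG M₂ hM₂ e₂.symm
  have hpush := Groth.Agent.FormalB.PpFinal.isCoh_push (b ∣_ U) M₂ hM₂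
  exact (KerCoker.exists_completion_iff hG (Compl.isCohFormal_completion I hpush) α₂
    (kerCoker_of_gen I α₂ hα₂)).2 ⟨_, hpush, ⟨Iso.refl _⟩⟩

end K164.EndA
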