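import Groth.Agent.Algz.K164.EndA

/-!
# Extending a formal module along a modification: reduction to the complete case
-/

set_option autoImplicit false
attribute [-instance] AlgebraicGeometry.specOverSpec
universe u

open CategoryTheory CategoryTheory.Limits AlgebraicGeometry Opposite
open Groth.Agent.FormalB.ModPow K573

namespace K164.EndB

/-- Pullback along a commutative square with two open immersions. -/
noncomputable def restrictSquareIso {X Y : Scheme.{u}} (g : X ⟶ Y) (V : Y.Opens) (V' : X.Opens)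
    (gV : (V' : Scheme.{u}) ⟶ (V : Scheme.{u})) (h : gV ≫ V.ι = V'.ι ≫ g) :
    Scheme.Modules.pullback g ⋙ Scheme.Modules.restrictFunctor V'.ι ≅
      Scheme.Modules.restrictFunctor V.ι ⋙ Scheme.Modules.pullback gV :=
  Functor.isoWhiskerLeft (Scheme.Modules.pullback g)
      (Scheme.Modules.restrictFunctorIsoPullback V'.ι) ≪≫
    Scheme.Modules.pullbackComp V'.ι g ≪≫
    Scheme.Modules.pullbackCongr h.symm ≪≫
    (Scheme.Modules.pullbackComp gV V.ι).symm ≪≫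
    Functor.isoWhiskerRight (Scheme.Modules.restrictFunctorIsoPullback V.ι).symm
      (Scheme.Modules.pullback gV)

/-- Two composites of pullbacks. -/
noncomputable def pullSquareIso {X Y Z W : Scheme.{u}} (a : X ⟶ Y) (b : Y ⟶ W) (c : X ⟶ Z) (d : Z ⟶ W)
    (h : a ≫ b = c ≫ d) :
    Scheme.Modules.pullback b ⋙ Scheme.Modules.pullback a ≅
      Scheme.Modules.pullback d ⋙ Scheme.Modules.pullback c :=
  Scheme.Modules.pullbackComp a b ≪≫ Scheme.Modules.pullbackCongr h ≪≫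
    (Scheme.Modules.pullbackComp c d).symm

/-- Extension along a modification. -/
theorem extends_of_modification (A : Type u) [CommRing A] [IsNoetherianRing A] (I : Ideal A)
    (U : (Spec (CommRingCat.of A)).Opens) (G : ℕᵒᵖ ⥤ (U : Scheme.{u}).Modules)
    (hG : Formal.IsCohFormal I G) (X : Scheme.{u}) [X.Over (Spec (CommRingCat.of A))]
    (b : X ⟶ Spec (CommRingCat.of A)) [IsProper b] (hXb : X ↘ Spec (CommRingCat.of A) = b)
    (hb : IsIso (b ∣_ LocCoh.puncturedOpen A I))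
    (H : ℕᵒᵖ ⥤ ((b ⁻¹ᵁ U : X.Opens) : Scheme.{u}).Modules)
    (hH : Formal.IsCohFormal I H)
    (α : G ⋙ Scheme.Modules.pullback (b ∣_ U) ⟶ H)
    (hα : Formal2.KerCokerKilledByIPow I α)
    (hext : Algz.Extends I (b ⁻¹ᵁ U) H) :
    @Algz.Extends A _ (Spec (CommRingCat.of A)) ⟨𝟙 (Spec (CommRingCat.of A))⟩ I U G := by
  rw [EquivBC.extends_iff_adicCompletion I U G hG]
  have hN : IsNoetherianRing (AdicCompletion I A) :=
    Groth.Agent.FormalB.AdicNoeth.isNoetherianRing_adicCompletion I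
  have hfl : Module.Flat A (AdicCompletion I A) := AdicCompletion.flat_of_isNoetherian I
  have hfg : I.FG := IsNoetherian.noetherian I
  have hcpl : IsAdicComplete (I.map (algebraMap A (AdicCompletion I A))) (AdicCompletion I A) :=
    AdicCompletion.isAdicComplete_self I hfg
  have hf0 : Flat (Spec.map (CommRingCat.ofHom (algebraMap A (AdicCompletion I A)))) := by
    rw [Flat.SpecMap_iff]
    exact RingHom.flat_algebraMap_iff.2 inferInstance
  set f := Spec.map (CommRingCat.ofHom (algebraMap A (AdicCompletion I A))) with hfdef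
  set I' := I.map (algebraMap A (AdicCompletion I A)) with hI'
  have n1 : IsNoetherian (Spec (CommRingCat.of (AdicCompletion I A))) := inferInstance
  -- the base change of `X`
  let X' : Scheme.{u} := pullback b f
  let g : X' ⟶ X := pullback.fst b f
  letI : X'.Over (Spec (CommRingCat.of (AdicCompletion I A))) := ⟨pullback.snd b f⟩
  letI : X'.Over (Spec (CommRingCat.of A)) := ⟨pullback.snd b f ≫ f⟩
  let b' : X' ⟶ Spec (CommRingCat.of (AdicCompletion I A)) := pullback.snd b f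
  have hp : IsPullback g b' b f := IsPullback.of_hasPullback b f
  have hb'p : IsProper b' := MorphismProperty.of_isPullback hp ‹IsProper b›
  have hc : BaseRing.Compat A (AdicCompletion I A) X' := rfl
  have hD : LocCoh.puncturedOpen (AdicCompletion I A) I' ≤ f ⁻¹ᵁ (LocCoh.puncturedOpen A I) := by
    intro x hx hx'
    refine hx fun y hy => ?_
    have h1 : I ≤ x.asIdeal.comap (algebraMap A (AdicCompletion I A)) := hx'
    exact (Ideal.map_le_iff_le_comap.2 h1) hy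
  have hb' : IsIso (b' ∣_ (LocCoh.puncturedOpen (AdicCompletion I A) I')) :=
    EndA.isIso_restrict hp _ _ hD hb
  have hgA : g ≫ (X ↘ Spec (CommRingCat.of A)) = X' ↘ Spec (CommRingCat.of A) := by
    rw [hXb]
    exact hp.w
  -- the opens
  have hEq : b' ⁻¹ᵁ (f ⁻¹ᵁ U) = g ⁻¹ᵁ (b ⁻¹ᵁ U) := by
    rw [← Scheme.Hom.comp_preimage, ← Scheme.Hom.comp_preimage, hp.w]
  let gV : ((b' ⁻¹ᵁ (f ⁻¹ᵁ U) : X'.Opens) : Scheme.{u}) ⟶ ((b ⁻¹ᵁ U : X.Opens) : Scheme.{u}) :=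
    (X'.isoOfEq hEq).hom ≫ (g ∣_ (b ⁻¹ᵁ U))
  have hg : Flat g := MorphismProperty.of_isPullback hp.flip hf0
  have hgV : Flat gV := inferInstance
  have hgVι : gV ≫ (b ⁻¹ᵁ U).ι = (b' ⁻¹ᵁ (f ⁻¹ᵁ U)).ι ≫ g := by
    rw [Category.assoc, morphismRestrict_ι, Scheme.isoOfEq_hom_ι_assoc]
  have hsq : gV ≫ (b ∣_ U) = (b' ∣_ (f ⁻¹ᵁ U)) ≫ (f ∣_ U) := by
    have h1 : (gV ≫ (b ∣_ U)) ≫ U.ι = (b' ⁻¹ᵁ (f ⁻¹ᵁ U)).ι ≫ g ≫ b := by
      rw [Category.assoc, morphismRestrict_ι]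
      exact (Category.assoc _ _ _).symm.trans ((congrArg (· ≫ b) hgVι).trans (Category.assoc _ _ _))
    have h2 : ((b' ∣_ (f ⁻¹ᵁ U)) ≫ (f ∣_ U)) ≫ U.ι = (b' ⁻¹ᵁ (f ⁻¹ᵁ U)).ι ≫ b' ≫ f := by
      rw [Category.assoc, morphismRestrict_ι]
      exact (Category.assoc _ _ _).symm.trans
        ((congrArg (· ≫ f) (morphismRestrict_ι b' (f ⁻¹ᵁ U))).trans (Category.assoc _ _ _))
    rw [← cancel_mono U.ι, h1, h2, hp.w]
  letI : ((b' ⁻¹ᵁ (f ⁻¹ᵁ U) : X'.Opens) : Scheme.{u}).Over (Spec (CommRingCat.of A)) :=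
    ⟨(b' ⁻¹ᵁ (f ⁻¹ᵁ U)).ι ≫ (X' ↘ Spec (CommRingCat.of A))⟩
  have hgVA : gV ≫ (((b ⁻¹ᵁ U : X.Opens) : Scheme.{u}) ↘ Spec (CommRingCat.of A)) =
      ((b' ⁻¹ᵁ (f ⁻¹ᵁ U) : X'.Opens) : Scheme.{u}) ↘ Spec (CommRingCat.of A) := by
    change gV ≫ (b ⁻¹ᵁ U).ι ≫ (X ↘ Spec (CommRingCat.of A)) = (b' ⁻¹ᵁ (f ⁻¹ᵁ U)).ι ≫ pullback.snd b f ≫ f
    rw [hXb, ← Category.assoc, hgVι, Category.assoc]
    exact congrArg _ hp.w
  have hcV : BaseRing.Compat A (AdicCompletion I A)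
      ((b' ⁻¹ᵁ (f ⁻¹ᵁ U) : X'.Opens) : Scheme.{u}) := by
    change ((b' ⁻¹ᵁ (f ⁻¹ᵁ U)).ι ≫ b') ≫ f = (b' ⁻¹ᵁ (f ⁻¹ᵁ U)).ι ≫ pullback.snd b f ≫ f
    rw [Category.assoc]
  have hH' : Formal.IsCohFormal I' (H ⋙ Scheme.Modules.pullback gV) := by
    rw [← BaseRing.isCohFormal_iff_map hcV]
    rw [isCohFormal_iff] at hH ⊢
    exact ⟨fun n => Groth.Agent.FormalB.PullCoh.isCoh_pullback gV (hH.1 n),
      Groth.Agent.FormalB.PullSys.pullback_isFormal gV hgVA hH.2⟩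
  let e : (G ⋙ Scheme.Modules.pullback (f ∣_ U)) ⋙ Scheme.Modules.pullback (b' ∣_ (f ⁻¹ᵁ U)) ≅
      (G ⋙ Scheme.Modules.pullback (b ∣_ U)) ⋙ Scheme.Modules.pullback gV :=
    Functor.isoWhiskerLeft G (pullSquareIso _ _ _ _ hsq.symm)
  have hα' : Formal2.KerCokerKilledByIPow I'
      (e.hom ≫ Functor.whiskerRight α (Scheme.Modules.pullback gV)) :=
    (KerCoker.kerCoker_iff_map hcV _).1
      (KerCoker.kerCoker_iso_comp e _ (KerCoker.kerCoker_pullback gV hgVA α hα))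
  letI : ((f ⁻¹ᵁ U : (Spec (CommRingCat.of (AdicCompletion I A))).Opens) : Scheme.{u}).Over
      (Spec (CommRingCat.of A)) :=
    ⟨(((f ⁻¹ᵁ U : (Spec (CommRingCat.of (AdicCompletion I A))).Opens) : Scheme.{u}) ↘
      Spec (CommRingCat.of (AdicCompletion I A))) ≫ f⟩
  have hcU : BaseRing.Compat A (AdicCompletion I A)
      ((f ⁻¹ᵁ U : (Spec (CommRingCat.of (AdicCompletion I A))).Opens) : Scheme.{u}) := rfl
  have hp2 : IsPullback ((f ⁻¹ᵁ U : Scheme.{u}) ↘ Spec (CommRingCat.of (AdicCompletion I A))) (f ∣_ U) f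
      ((U : Scheme.{u}) ↘ Spec (CommRingCat.of A)) := (isPullback_morphismRestrict f U).flip
  have hG' : Formal.IsCohFormal I' (G ⋙ Scheme.Modules.pullback (f ∣_ U)) := by
    rw [← BaseRing.isCohFormal_iff_map hcU]
    rw [isCohFormal_iff] at hG ⊢
    exact ⟨fun n => Groth.Agent.FormalB.PullCoh.isCoh_pullback (f ∣_ U) (hG.1 n),
      Groth.Agent.FormalB.PullSys.pullback_isFormal (f ∣_ U) hp2.w.symm hG.2⟩
  have hext' : Algz.Extends I' (b' ⁻¹ᵁ (f ⁻¹ᵁ U)) (H ⋙ Scheme.Modules.pullback gV) := by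
    obtain ⟨G', hG', ⟨i⟩⟩ := hext
    refine ⟨G' ⋙ Scheme.Modules.pullback g, ?_, ⟨?_⟩⟩
    · rw [← BaseRing.isCohFormal_iff_map hc]
      rw [isCohFormal_iff] at hG' ⊢
      exact ⟨fun n => Groth.Agent.FormalB.PullCoh.isCoh_pullback g (hG'.1 n),
        Groth.Agent.FormalB.PullSys.pullback_isFormal g hgA hG'.2⟩
    · exact Functor.isoWhiskerLeft G' (restrictSquareIso g _ _ gV hgVι) ≪≫
        Functor.isoWhiskerRight i (Scheme.Modules.pullback gV)
  exact EndA.exists_completion (AdicCompletion I A) I' (f ⁻¹ᵁ U)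
    (G ⋙ Scheme.Modules.pullback (f ∣_ U)) hG' X' b' rfl hb' (H ⋙ Scheme.Modules.pullback gV) hH'
    (e.hom ≫ Functor.whiskerRight α (Scheme.Modules.pullback gV)) hα' hext'

end K164.EndB
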