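import Groth.Agent.Algz.K164.LocPro

/-!
# Local-to-global for the comparison between a system and its completed limit

`X` Noetherian over `Spec A`, `E` an inverse system with `E_n` killed by `I^(n+1)`, locally pro-isomorphic to a
coherent formal module.  Then the canonical map `can : completion I (limit E) ⟶ E` is a pro-isomorphism
(`isProIso_can`).  For a levelwise map `β : G ⟶ E` from a coherent formal module there is a canonical
`αmap : G ⟶ completion I (limit E)` with `αmap ≫ can = β`, and the property "kernel and cokernel killed by a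
power of `I`" of `αmap` is local on `X` (`kerCoker_αmap`).
-/

set_option autoImplicit false
universe u

open CategoryTheory CategoryTheory.Limits AlgebraicGeometry Opposite
open Groth.Agent.FormalB Groth.Agent.FormalB.ModPow

namespace K164.Glob

/-- Unbundled form of a pro-isomorphism. -/
theorem unbundle {C : Type*} [Category C] [HasLimitsOfShape ℕᵒᵖ C] {E G : ARSys.PS C}
    (h : Algz.IsProIsomorphic E G) :
    ∃ (m : ℕ → ℕ) (hm : Monotone m) (_ : ∀ n : ℕ, n ≤ m n)
      (a : ∀ n : ℕ, E.obj (op (m n)) ⟶ G.obj (op n)),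
      (∀ n : ℕ, ∃ (K : ℕ) (hK : n ≤ K) (b : G.obj (op K) ⟶ E.obj (op (m n))),
        a K ≫ b = ARSys.tr E (hm hK) ∧ b ≫ a n = ARSys.tr G hK) ∧
      ∃ ψ : limit E ⟶ limit G, IsIso ψ ∧
        ∀ n, ψ ≫ limit.π G (op n) = limit.π E (op (m n)) ≫ a n := by
  obtain ⟨m, hm, hle, a, ha⟩ := h
  refine ⟨m, hm, hle, fun n => a.app (op n), fun n => ?_, ?_⟩
  · obtain ⟨K, hK, b, h1, h2⟩ := ha n
    exact ⟨K, hK, b, h1, h2⟩
  · have i1 := ProCrit.isIso_limMap (ProCrit.isProIso_reπ E hm hle)
    have i2 := ProCrit.isIso_limMap ha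
    refine ⟨inv (limMap (K573.ProIso.reπ E hm hle)) ≫ limMap a, inferInstance, fun n => ?_⟩
    have h1 : inv (limMap (K573.ProIso.reπ E hm hle)) ≫ limit.π (DerCA.reindex E hm) (op n) =
        limit.π E (op (m n)) := by
      rw [IsIso.inv_comp_eq]
      have h0 : limMap (K573.ProIso.reπ E hm hle) ≫ limit.π E (op (m n)) =
          limit.π (DerCA.reindex E hm) (op (m n)) ≫ (K573.ProIso.reπ E hm hle).app (op (m n)) :=
        limMap_π _ _
      exact (h0.trans (ProCrit.π_tr (DerCA.reindex E hm) (hle n))).symm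
    rw [Category.assoc, limMap_π, ← Category.assoc, h1]
    rfl

section Zero

variable {X : Scheme.{u}}

theorem eq_zero_of_restrict {M N : X.Modules} (f : M ⟶ N)
    (h : ∀ x : X, ∃ (U : Scheme.{u}) (j : U ⟶ X) (_ : IsOpenImmersion j) (y : U), j y = x ∧
      (Scheme.Modules.restrictFunctor j).map f = 0) : f = 0 := by
  have h1 : IsIso (kernel.ι f) := by
    refine Groth.Agent.PerfA.Restrict.isIso_of_restrict _ fun x => ?_
    obtain ⟨U, j, hj, y, hy, h0⟩ := h x
    refine ⟨U, j, hj, y, hy, ?_⟩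
    have hp : PreservesFiniteLimits (Scheme.Modules.restrictFunctor j) :=
      PreservesLimits.preservesFiniteLimits _
    have h2 : kernelComparison f (Scheme.Modules.restrictFunctor j) ≫
          kernel.ι ((Scheme.Modules.restrictFunctor j).map f) =
        (Scheme.Modules.restrictFunctor j).map (kernel.ι f) := kernelComparison_comp_ι _ _
    have h4 : kernel.lift ((Scheme.Modules.restrictFunctor j).map f)
        (𝟙 ((Scheme.Modules.restrictFunctor j).obj M)) (by rw [Category.id_comp, h0]) ≫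
          kernel.ι ((Scheme.Modules.restrictFunctor j).map f) = 𝟙 _ := kernel.lift_ι _ _ _
    have h5 : IsSplitEpi (kernel.ι ((Scheme.Modules.restrictFunctor j).map f)) := ⟨⟨_, h4⟩⟩
    have h3 : IsIso (kernel.ι ((Scheme.Modules.restrictFunctor j).map f)) :=
      isIso_of_mono_of_isSplitEpi _
    rw [← h2]
    infer_instance
  rw [← cancel_epi (kernel.ι f), kernel.condition, comp_zero]

/-- Uniform constants for charts of a quasi-compact scheme. -/
theorem exists_uniform [CompactSpace X]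
    (Q : ∀ (V : Scheme.{u}) (φ : V ⟶ X), IsOpenImmersion φ → ℕ → Prop)
    (hmono : ∀ (V : Scheme.{u}) (φ : V ⟶ X) (hφ : IsOpenImmersion φ) (m n : ℕ), m ≤ n →
      Q V φ hφ m → Q V φ hφ n)
    (h : ∀ x : X, ∃ (V : Scheme.{u}) (φ : V ⟶ X) (hφ : IsOpenImmersion φ) (y : V), φ y = x ∧
      ∃ n, Q V φ hφ n) :
    ∃ n, ∀ x : X, ∃ (V : Scheme.{u}) (φ : V ⟶ X) (hφ : IsOpenImmersion φ) (y : V), φ y = x ∧
      Q V φ hφ n := by
  choose V φ hφ y hy n hn using h
  obtain ⟨s, hs⟩ := (isCompact_univ (X := X)).elim_finite_subcover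
    (fun x : X => ((φ x).opensRange : Set X)) (fun x => (φ x).opensRange.2)
    (fun x _ => Set.mem_iUnion.2 ⟨x, ⟨y x, hy x⟩⟩)
  refine ⟨s.sup n, fun x => ?_⟩
  have hx := hs (Set.mem_univ x)
  simp only [Set.mem_iUnion] at hx
  obtain ⟨x', hx's, ⟨z, hz⟩⟩ := hx
  exact ⟨V x', φ x', hφ x', z, hz, hmono _ _ _ _ _ (Finset.le_sup hx's) (hn x')⟩

end Zero

section

variable {A : Type u} [CommRing A] {X : Scheme.{u}} [X.Over (Spec (CommRingCat.of A))]

/-- Every term is killed by the corresponding power of `I`. -/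
def Killed (I : Ideal A) (E : ℕᵒᵖ ⥤ X.Modules) : Prop :=
  ∀ n : ℕ, Formal.KilledBy (I ^ (n + 1)) (E.obj (op n))

/-- The canonical map from the completed limit. -/
noncomputable def can {I : Ideal A} {E : ℕᵒᵖ ⥤ X.Modules} (hE : Killed I E) :
    Formal.completion I (limit E) ⟶ E :=
  completionDesc I (fun n => limit.π E (op n))
    (fun n a ha => by rw [smulMod_naturality, hE n a ha, comp_zero])
    (fun n => limit.w E (homOfLE (Nat.le_succ n)).op)

@[reassoc (attr := simp)]
theorem cπ_can {I : Ideal A} {E : ℕᵒᵖ ⥤ X.Modules} (hE : Killed I E) (n : ℕ) :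
    cπ I (limit E) n ≫ (can hE).app (op n) = limit.π E (op n) :=
  cπ_completionDesc _ _ _ _ _

theorem cπ_tr {I : Ideal A} (M : X.Modules) {n m : ℕ} (h : n ≤ m) :
    cπ I M m ≫ ARSys.tr (Formal.completion I M) h = cπ I M n := cπ_map I M h

/-- The local case. -/
theorem isProIso_can_of_proIso [IsLocallyNoetherian X] {I : Ideal A} {E G : ℕᵒᵖ ⥤ X.Modules}
    (hE : Killed I E) (hG : Formal.IsCohFormal I G) (h : Algz.IsProIsomorphic E G) :
    DerCA.IsProIso (can hE) := by
  obtain ⟨m, hm, hle, a, hab, ψ, hψi, hψ⟩ := unbundle h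
  have hGq := LimAff.isQCohFormal_of_isCohFormal hG
  have hfg := LimAff.fg_of_isLocallyNoetherian (X := X) I
  let e : Formal.completion I (limit G) ≅ G := LimAff.completionLimitIso hGq hfg
  have he : ∀ n, cπ I (limit G) n ≫ e.hom.app (op n) = limit.π G (op n) :=
    LimAff.cπ_completionLimitIso_hom hGq hfg
  let u : Formal.completion I (limit E) ⟶ G := completionMap I ψ ≫ e.hom
  have hu : ∀ n, cπ I (limit E) n ≫ u.app (op n) = limit.π E (op (m n)) ≫ a n := by
    intro n
    rw [NatTrans.comp_app, cπ_completionMap_assoc, he, hψ]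
  have hc : IsIso (completionMap I ψ) := (K573.Compl.completionMapIso I (asIso ψ)).isIso_hom
  have hui : IsIso u := inferInstance
  intro n
  obtain ⟨K, hK, b, hb1, hb2⟩ := hab n
  have huu : u.app (op n) ≫ (inv u).app (op n) = 𝟙 _ := by
    rw [← NatTrans.comp_app, IsIso.hom_inv_id]
    rfl
  have key : limit.π E (op (m n)) ≫ a n ≫ (inv u).app (op n) = cπ I (limit E) n := by
    rw [← Category.assoc, ← hu n, Category.assoc, huu, Category.comp_id]
  refine ⟨m K, (hle n).trans (hm hK), ARSys.tr E (hm hK) ≫ a n ≫ (inv u).app (op n), ?_, ?_⟩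
  · rw [← cancel_epi (cπ I (limit E) (m K)), cπ_can_assoc, cπ_tr, ← Category.assoc, ProCrit.π_tr]
    exact key
  · have hepi : Epi (limit.π G (op K)) := (LimAff.isModPow_π hGq hfg K).epi
    have h2 : b ≫ (a n ≫ (inv u).app (op n)) ≫ (can hE).app (op n) =
        b ≫ ARSys.tr E (hle n) := by
      rw [← cancel_epi (ψ ≫ limit.π G (op K)), hψ]
      have h3 : (limit.π E (op (m K)) ≫ a K) ≫ b = limit.π E (op (m n)) := by
        rw [Category.assoc, hb1, ProCrit.π_tr]
      rw [← Category.assoc _ b, h3, ← Category.assoc, key, cπ_can, ← Category.assoc _ b, h3,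
        ProCrit.π_tr]
    have h6 : ARSys.tr E ((hle n).trans (hm hK)) = ARSys.tr E (hm hK) ≫ ARSys.tr E (hle n) :=
      (K573.ProIso.tr_trans E _ _).symm
    rw [h6, ← hb1, Category.assoc, Category.assoc, h2, Category.assoc]

section Res

variable {V : Scheme.{u}} (φ : V ⟶ X) [IsOpenImmersion φ] [V.Over (Spec (CommRingCat.of A))]
  (hφ : φ ≫ (X ↘ Spec (CommRingCat.of A)) = V ↘ Spec (CommRingCat.of A))

/-- The restriction of the completed limit, as an explicit isomorphism. -/
noncomputable def resIso (I : Ideal A) (E : ℕᵒᵖ ⥤ X.Modules) :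
    Formal.completion I (limit E) ⋙ Scheme.Modules.restrictFunctor φ ≅
      Formal.completion I (limit (E ⋙ Scheme.Modules.restrictFunctor φ)) :=
  have := LocPro.preservesLimitsNat φ
  (K573.Compl.restrictCompletionIso φ hφ I (limit E)).symm ≪≫
    K573.Compl.completionMapIso I (preservesLimitIso (Scheme.Modules.restrictFunctor φ) E)

theorem map_cπ_resIso_hom (I : Ideal A) (E : ℕᵒᵖ ⥤ X.Modules) (n : ℕ) :
    have := LocPro.preservesLimitsNat φ
    (Scheme.Modules.restrictFunctor φ).map (cπ I (limit E) n) ≫ (resIso φ hφ I E).hom.app (op n) =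
      (preservesLimitIso (Scheme.Modules.restrictFunctor φ) E).hom ≫
        cπ I (limit (E ⋙ Scheme.Modules.restrictFunctor φ)) n := by
  have := LocPro.preservesLimitsNat φ
  have h1 : cπ I ((Scheme.Modules.restrictFunctor φ).obj (limit E)) n ≫
      (K573.Compl.restrictCompletionIso φ hφ I (limit E)).hom.app (op n) =
      (Scheme.Modules.restrictFunctor φ).map (cπ I (limit E) n) :=
    cπ_completionIso_hom I _ _ _ n
  have h2 : (K573.Compl.restrictCompletionIso φ hφ I (limit E)).hom.app (op n) ≫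
      (K573.Compl.restrictCompletionIso φ hφ I (limit E)).inv.app (op n) = 𝟙 _ := by
    rw [← NatTrans.comp_app, Iso.hom_inv_id]
    rfl
  have h3 : (resIso φ hφ I E).hom.app (op n) =
      (K573.Compl.restrictCompletionIso φ hφ I (limit E)).inv.app (op n) ≫
        (completionMap I (preservesLimitIso (Scheme.Modules.restrictFunctor φ) E).hom).app (op n) := rfl
  dsimp only
  rw [h3, ← h1, Category.assoc, ← Category.assoc (_ : _ ⟶ _)
    ((K573.Compl.restrictCompletionIso φ hφ I (limit E)).inv.app (op n)), h2, Category.id_comp,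
    cπ_completionMap]

include hφ in
theorem killed_restrict {I : Ideal A} {E : ℕᵒᵖ ⥤ X.Modules} (hE : Killed I E) :
    Killed I (E ⋙ Scheme.Modules.restrictFunctor φ) := fun n =>
  K573.Base.restrict_killedBy φ hφ (hE n)

/-- The canonical map restricts to the canonical map. -/
theorem can_restrict {I : Ideal A} {E : ℕᵒᵖ ⥤ X.Modules} (hE : Killed I E) :
    Functor.whiskerRight (can hE) (Scheme.Modules.restrictFunctor φ) =
      (resIso φ hφ I E).hom ≫ can (killed_restrict φ hφ hE) := by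
  have := LocPro.preservesLimitsNat φ
  ext n : 2
  obtain ⟨n⟩ := n
  have hepi : Epi ((Scheme.Modules.restrictFunctor φ).map (cπ I (limit E) n)) :=
    (K573.Base.restrict_isModPow φ hφ (isModPow_cπ I (limit E) n)).epi
  rw [← cancel_epi ((Scheme.Modules.restrictFunctor φ).map (cπ I (limit E) n)), NatTrans.comp_app,
    ← Category.assoc, map_cπ_resIso_hom, Category.assoc, cπ_can]
  have h1 : (Scheme.Modules.restrictFunctor φ).map (cπ I (limit E) n) ≫
      (Functor.whiskerRight (can hE) (Scheme.Modules.restrictFunctor φ)).app (op n) =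
      (Scheme.Modules.restrictFunctor φ).map (limit.π E (op n)) := by
    rw [Functor.whiskerRight_app, ← Functor.map_comp, cπ_can]
  rw [h1]
  exact (preservesLimitIso_hom_π (Scheme.Modules.restrictFunctor φ) E (op n)).symm

end Res

section Kill

variable {V : Scheme.{u}} (φ : V ⟶ X) [IsOpenImmersion φ] [V.Over (Spec (CommRingCat.of A))]
  (hφ : φ ≫ (X ↘ Spec (CommRingCat.of A)) = V ↘ Spec (CommRingCat.of A))

include hφ in
theorem restrict_smulMod (M : X.Modules) (a : A) :
    (Scheme.Modules.restrictFunctor φ).map (Formal.smulMod A M a) =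
      Formal.smulMod A ((Scheme.Modules.restrictFunctor φ).obj M) a := by
  have h1 := smulMod_naturality ((Scheme.Modules.restrictFunctorIsoPullback φ).inv.app M) a
  rw [K573.Base.restrict_map_eq, PullSys.pullback_smulMod φ hφ, h1, ← Category.assoc,
    Iso.hom_inv_id_app]
  exact Category.id_comp _

end Kill

/-- Being killed by an ideal is local. -/
theorem killedBy_of_restrict {J : Ideal A} (M : X.Modules)
    (h : ∀ x : X, ∃ (V : Scheme.{u}) (φ : V ⟶ X) (_ : IsOpenImmersion φ) (y : V), φ y = x ∧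
      @Formal.KilledBy A _ V ⟨φ ≫ (X ↘ Spec (CommRingCat.of A))⟩ J
        ((Scheme.Modules.restrictFunctor φ).obj M)) : Formal.KilledBy J M := by
  intro a ha
  refine eq_zero_of_restrict _ fun x => ?_
  obtain ⟨V, φ, hφ, y, hy, hk⟩ := h x
  refine ⟨V, φ, hφ, y, hy, ?_⟩
  letI : V.Over (Spec (CommRingCat.of A)) := ⟨φ ≫ (X ↘ Spec (CommRingCat.of A))⟩
  rw [restrict_smulMod φ rfl]
  exact hk a ha

/-- The canonical map is natural. -/
theorem completionMap_can {I : Ideal A} {E H : ℕᵒᵖ ⥤ X.Modules} (hE : Killed I E) (hH : Killed I H)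
    (c : H ⟶ E) : completionMap I (limMap c) ≫ can hE = can hH ≫ c := by
  apply completion_hom_ext
  intro n
  rw [NatTrans.comp_app, NatTrans.comp_app, cπ_completionMap_assoc, cπ_can, cπ_can_assoc, limMap_π]

theorem killed_of_isCohFormal {I : Ideal A} {G : ℕᵒᵖ ⥤ X.Modules} (hG : Formal.IsCohFormal I G) :
    Killed I G := hG.2.1

theorem isIso_can [IsLocallyNoetherian X] {I : Ideal A} {G : ℕᵒᵖ ⥤ X.Modules}
    (hG : Formal.IsCohFormal I G) : IsIso (can (killed_of_isCohFormal hG)) := by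
  have h1 : can (killed_of_isCohFormal hG) =
      (LimAff.completionLimitIso (LimAff.isQCohFormal_of_isCohFormal hG)
        (LimAff.fg_of_isLocallyNoetherian I)).hom := by
    apply completion_hom_ext
    intro n
    rw [cπ_can, LimAff.cπ_completionLimitIso_hom]
  rw [h1]
  infer_instance

/-- If `E` receives a pro-isomorphism from a coherent formal module then `can` is a
pro-isomorphism. -/
theorem isProIso_can_of_hom [IsLocallyNoetherian X] {I : Ideal A} {E H : ℕᵒᵖ ⥤ X.Modules}
    (hE : Killed I E) (hH : Formal.IsCohFormal I H) (c : H ⟶ E) (hc : DerCA.IsProIso c) :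
    DerCA.IsProIso (can hE) := by
  have i1 := isIso_can hH
  have i2 := ProCrit.isIso_limMap hc
  have i3 : IsIso (completionMap I (limMap c)) :=
    (K573.Compl.completionMapIso I (asIso (limMap c))).isIso_hom
  have h1 : can hE = inv (completionMap I (limMap c)) ≫ can (killed_of_isCohFormal hH) ≫ c := by
    rw [IsIso.eq_inv_comp, completionMap_can]
  rw [h1, ← Category.assoc]
  exact K573.ProIso.isProIso_iso_comp hc _

/-- The comparison map from a coherent formal module. -/
noncomputable def αmap [IsLocallyNoetherian X] {I : Ideal A} {G E : ℕᵒᵖ ⥤ X.Modules}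
    (hG : Formal.IsCohFormal I G) (β : G ⟶ E) : G ⟶ Formal.completion I (limit E) :=
  haveI := isIso_can hG
  inv (can (killed_of_isCohFormal hG)) ≫ completionMap I (limMap β)

theorem αmap_can [IsLocallyNoetherian X] {I : Ideal A} {G E : ℕᵒᵖ ⥤ X.Modules}
    (hG : Formal.IsCohFormal I G) (hE : Killed I E) (β : G ⟶ E) : αmap hG β ≫ can hE = β := by
  have := isIso_can hG
  rw [αmap, Category.assoc, completionMap_can hE (killed_of_isCohFormal hG), IsIso.inv_hom_id_assoc]

/-- Maps from a system with epimorphic transition maps, composed with a pro-isomorphism. -/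
theorem hom_ext_of_proIso {C : Type*} [Category C] {G H E : ARSys.PS C}
    (hG : ∀ (n m : ℕ) (h : n ≤ m), Epi (ARSys.tr G h)) (c : H ⟶ E) (hc : DerCA.IsProIso c)
    {α α' : G ⟶ H} (h : α ≫ c = α' ≫ c) : α = α' := by
  ext n : 2
  obtain ⟨n⟩ := n
  obtain ⟨m, hm, b, hb, -⟩ := hc n
  have := hG n m hm
  have h1 : α.app (op m) ≫ c.app (op m) = α'.app (op m) ≫ c.app (op m) := by
    rw [← NatTrans.comp_app, h, NatTrans.comp_app]
  rw [← cancel_epi (ARSys.tr G hm), K573.ProIso.tr_nat, K573.ProIso.tr_nat, ← hb, ← Category.assoc, h1,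
    Category.assoc]

theorem epi_tr {I : Ideal A} {G : ℕᵒᵖ ⥤ X.Modules} (hG : Formal.IsCohFormal I G) (n m : ℕ) (h : n ≤ m) :
    Epi (ARSys.tr G h) := (((isCohFormal_iff I G).1 hG).2.isModPow h).epi

/-- The data for the local-to-global principle. -/
def Good {V : Scheme.{u}} [V.Over (Spec (CommRingCat.of A))] (I : Ideal A) {G E : ℕᵒᵖ ⥤ V.Modules}
    (β : G ⟶ E) : Prop :=
  ∃ (H : ℕᵒᵖ ⥤ V.Modules) (_ : Formal.IsCohFormal I H) (α : G ⟶ H) (c : H ⟶ E),
    Formal2.KerCokerKilledByIPow I α ∧ DerCA.IsProIso c ∧ α ≫ c = β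

theorem αmap_eq [IsLocallyNoetherian X] {I : Ideal A} {G E H : ℕᵒᵖ ⥤ X.Modules}
    (hG : Formal.IsCohFormal I G) (hE : Killed I E) (β : G ⟶ E) (hH : Formal.IsCohFormal I H)
    (α : G ⟶ H) (c : H ⟶ E) (hc : DerCA.IsProIso c) (h : α ≫ c = β) :
    ∃ e : H ≅ Formal.completion I (limit E), αmap hG β = α ≫ e.hom := by
  have i1 := isIso_can hH
  have i2 := ProCrit.isIso_limMap hc
  let e : H ≅ Formal.completion I (limit E) :=
    (asIso (can (killed_of_isCohFormal hH))).symm ≪≫ K573.Compl.completionMapIso I (asIso (limMap c))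
  have he : e.hom ≫ can hE = c := by
    have h1 : e.hom = inv (can (killed_of_isCohFormal hH)) ≫ completionMap I (limMap c) := rfl
    rw [h1, Category.assoc, completionMap_can hE (killed_of_isCohFormal hH),
      IsIso.inv_hom_id_assoc]
  refine ⟨e, hom_ext_of_proIso (epi_tr hG) (can hE) (isProIso_can_of_hom hE hH c hc) ?_⟩
  rw [αmap_can, Category.assoc, he, h]

theorem Good.isProIso_can [IsLocallyNoetherian X] {I : Ideal A} {G E : ℕᵒᵖ ⥤ X.Modules} {β : G ⟶ E}
    (h : Good I β) (hE : Killed I E) : DerCA.IsProIso (can hE) := by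
  obtain ⟨H, hH, α, c, -, hc, -⟩ := h
  exact isProIso_can_of_hom hE hH c hc

theorem Good.kerCoker [IsLocallyNoetherian X] {I : Ideal A} {G E : ℕᵒᵖ ⥤ X.Modules} {β : G ⟶ E}
    (h : Good I β) (hE : Killed I E) (hG : Formal.IsCohFormal I G) :
    Formal2.KerCokerKilledByIPow I (αmap hG β) := by
  obtain ⟨H, hH, α, c, hα, hc, h1⟩ := h
  obtain ⟨e, he⟩ := αmap_eq hG hE β hH α c hc h1
  rw [he]
  obtain ⟨t, ht⟩ := hα
  refine ⟨t, fun n => ⟨?_, ?_⟩⟩
  · exact killedBy_of_iso (kernelCompMono (α.app (op n)) (e.hom.app (op n))).symm (ht n).1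
  · exact killedBy_of_iso (cokernelCompIsIso (α.app (op n)) (e.hom.app (op n))).symm (ht n).2

/-- **Local-to-global**, part 1: the completed limit is pro-isomorphic to `E`. -/
theorem isProIso_can [IsNoetherian X] {I : Ideal A} {E : ℕᵒᵖ ⥤ X.Modules} (hE : Killed I E)
    (h : ∀ x : X, ∃ (V : Scheme.{u}) (φ : V ⟶ X) (_ : IsOpenImmersion φ) (y : V), φ y = x ∧
      letI : V.Over (Spec (CommRingCat.of A)) := ⟨φ ≫ (X ↘ Spec (CommRingCat.of A))⟩
      ∃ hE' : Killed I (E ⋙ Scheme.Modules.restrictFunctor φ), DerCA.IsProIso (can hE')) :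
    DerCA.IsProIso (can hE) := by
  have key : ∀ x : X, ∃ (V : Scheme.{u}) (φ : V ⟶ X) (_ : IsOpenImmersion φ) (y : V), φ y = x ∧
      DerCA.IsProIso (Functor.whiskerRight (can hE) (Scheme.Modules.restrictFunctor φ)) := by
    intro x
    obtain ⟨V, φ, hφ, y, hy, hE', hc⟩ := h x
    refine ⟨V, φ, hφ, y, hy, ?_⟩
    letI : V.Over (Spec (CommRingCat.of A)) := ⟨φ ≫ (X ↘ Spec (CommRingCat.of A))⟩
    rw [can_restrict φ rfl hE]
    exact K573.ProIso.isProIso_iso_comp hc _
  refine ProCrit.isProIso_of_kernel_cokernel _ (fun n => ?_) (fun n => ?_)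
  · obtain ⟨m, hm⟩ := exists_uniform (X := X)
      (fun V φ _ m₀ => ∀ (m : ℕ) (_ : m₀ ≤ m) (h : n ≤ m), (Scheme.Modules.restrictFunctor φ).map
        (kernel.ι ((can hE).app (op m)) ≫ ARSys.tr (Formal.completion I (limit E)) h) = 0)
      (fun V φ _ a b hab ha m hm h => ha m (hab.trans hm) h) (fun x => by
        obtain ⟨V, φ, hφ, y, hy, hp⟩ := key x
        obtain ⟨m₀, -, hm₀⟩ := ProCrit.kernel_zero (Scheme.Modules.restrictFunctor φ) hp n
        exact ⟨V, φ, hφ, y, hy, m₀, hm₀⟩)
    refine ⟨max m n, le_max_right _ _, eq_zero_of_restrict _ fun x => ?_⟩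
    obtain ⟨V, φ, hφ, y, hy, h0⟩ := hm x
    exact ⟨V, φ, hφ, y, hy, h0 _ (le_max_left _ _) _⟩
  · obtain ⟨m, hm⟩ := exists_uniform (X := X)
      (fun V φ _ m₀ => ∀ (m : ℕ) (_ : m₀ ≤ m) (h : n ≤ m), (Scheme.Modules.restrictFunctor φ).map
        (ARSys.tr E h ≫ cokernel.π ((can hE).app (op n))) = 0)
      (fun V φ _ a b hab ha m hm h => ha m (hab.trans hm) h) (fun x => by
        obtain ⟨V, φ, hφ, y, hy, hp⟩ := key x
        obtain ⟨m₀, -, hm₀⟩ := ProCrit.cokernel_zero (Scheme.Modules.restrictFunctor φ) hp n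
        exact ⟨V, φ, hφ, y, hy, m₀, hm₀⟩)
    refine ⟨max m n, le_max_right _ _, eq_zero_of_restrict _ fun x => ?_⟩
    obtain ⟨V, φ, hφ, y, hy, h0⟩ := hm x
    exact ⟨V, φ, hφ, y, hy, h0 _ (le_max_left _ _) _⟩

theorem isCoh_of_charts (M : X.Modules)
    (h : ∀ x : X, ∃ (V : Scheme.{u}) (φ : V ⟶ X) (_ : IsOpenImmersion φ) (y : V), φ y = x ∧
      Coh.IsCoh ((Scheme.Modules.restrictFunctor φ).obj M)) : Coh.IsCoh M := by
  refine Groth.Agent.PerfA.CohSerre.isCoh_of_restrict _ fun x => ?_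
  obtain ⟨V, φ, hφ, y, rfl, h1⟩ := h x
  refine ⟨φ.opensRange, ⟨y, rfl⟩, ?_⟩
  refine Groth.Agent.PerfA.CohSerre.isCoh_of_iso ?_
    (Groth.Agent.PerfA.CohSerre.isCoh_restrict φ.isoOpensRange.inv h1)
  exact ((Scheme.Modules.restrictFunctorComp φ.isoOpensRange.inv φ).symm ≪≫
    Scheme.Modules.restrictFunctorCongr (by simp)).app _

theorem isCohFormal_restrict {V : Scheme.{u}} (φ : V ⟶ X) [IsOpenImmersion φ]
    [V.Over (Spec (CommRingCat.of A))]
    (hφ : φ ≫ (X ↘ Spec (CommRingCat.of A)) = V ↘ Spec (CommRingCat.of A)) {I : Ideal A}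
    {G : ℕᵒᵖ ⥤ X.Modules} (hG : Formal.IsCohFormal I G) :
    Formal.IsCohFormal I (G ⋙ Scheme.Modules.restrictFunctor φ) := by
  rw [isCohFormal_iff] at hG ⊢
  exact ⟨fun n => Groth.Agent.PerfA.CohSerre.isCoh_restrict φ (hG.1 n),
    K573.Base.restrict_isFormal φ hφ hG.2⟩

theorem αmap_restrict [IsLocallyNoetherian X] {V : Scheme.{u}} (φ : V ⟶ X) [IsOpenImmersion φ]
    [V.Over (Spec (CommRingCat.of A))] [IsLocallyNoetherian V]
    (hφ : φ ≫ (X ↘ Spec (CommRingCat.of A)) = V ↘ Spec (CommRingCat.of A)) {I : Ideal A}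
    {G E : ℕᵒᵖ ⥤ X.Modules} (hG : Formal.IsCohFormal I G) (hE : Killed I E) (β : G ⟶ E)
    (hc : DerCA.IsProIso (can (killed_restrict φ hφ hE))) :
    Functor.whiskerRight (αmap hG β) (Scheme.Modules.restrictFunctor φ) ≫ (resIso φ hφ I E).hom =
      αmap (isCohFormal_restrict φ hφ hG)
        (Functor.whiskerRight β (Scheme.Modules.restrictFunctor φ)) := by
  refine hom_ext_of_proIso (epi_tr (isCohFormal_restrict φ hφ hG)) _ hc ?_
  rw [αmap_can _ (killed_restrict φ hφ hE), Category.assoc, ← can_restrict φ hφ hE,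
    ← Functor.whiskerRight_comp, αmap_can hG hE]

/-- **Local-to-global principle** for maps from coherent formal modules. -/
theorem good_of_local [IsNoetherian X] {I : Ideal A} {G E : ℕᵒᵖ ⥤ X.Modules}
    (hG : Formal.IsCohFormal I G) (hE : Killed I E) (β : G ⟶ E)
    (h : ∀ x : X, ∃ (V : Scheme.{u}) (φ : V ⟶ X) (_ : IsOpenImmersion φ) (y : V), φ y = x ∧
      letI : V.Over (Spec (CommRingCat.of A)) := ⟨φ ≫ (X ↘ Spec (CommRingCat.of A))⟩
      Good I (Functor.whiskerRight β (Scheme.Modules.restrictFunctor φ))) :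
    Formal.IsCohFormal I (Formal.completion I (limit E)) ∧
      Formal2.KerCokerKilledByIPow I (αmap hG β) ∧ DerCA.IsProIso (can hE) := by
  refine ⟨?_, ?_, ?_⟩
  · rw [isCohFormal_iff]
    refine ⟨fun n => isCoh_of_charts _ fun x => ?_, isFormal_completion I _⟩
    obtain ⟨V, φ, hφ, y, hy, hV⟩ := h x
    letI : V.Over (Spec (CommRingCat.of A)) := ⟨φ ≫ (X ↘ Spec (CommRingCat.of A))⟩
    have : IsLocallyNoetherian V := isLocallyNoetherian_of_isOpenImmersion φ
    obtain ⟨H, hH, α, c, hα, hc, h1⟩ := hV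
    obtain ⟨e, -⟩ := αmap_eq (isCohFormal_restrict φ rfl hG) (killed_restrict φ rfl hE) _ hH α c hc h1
    exact ⟨V, φ, hφ, y, hy, Groth.Agent.PerfA.CohSerre.isCoh_of_iso
      ((e ≪≫ (resIso φ rfl I E).symm).app (op n)) (hH.1 n)⟩
  · have key : ∀ x : X, ∃ (V : Scheme.{u}) (φ : V ⟶ X) (hφ : IsOpenImmersion φ) (y : V), φ y = x ∧
        ∃ t : ℕ, ∀ n : ℕ, @Formal.KilledBy A _ V ⟨φ ≫ (X ↘ Spec (CommRingCat.of A))⟩ (I ^ (t + 1))
            ((Scheme.Modules.restrictFunctor φ).obj (kernel ((αmap hG β).app (op n)))) ∧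
          @Formal.KilledBy A _ V ⟨φ ≫ (X ↘ Spec (CommRingCat.of A))⟩ (I ^ (t + 1))
            ((Scheme.Modules.restrictFunctor φ).obj (cokernel ((αmap hG β).app (op n)))) := by
      intro x
      obtain ⟨V, φ, hφ, y, hy, hV⟩ := h x
      letI : V.Over (Spec (CommRingCat.of A)) := ⟨φ ≫ (X ↘ Spec (CommRingCat.of A))⟩
      have : IsLocallyNoetherian V := isLocallyNoetherian_of_isOpenImmersion φ
      have hc := hV.isProIso_can (killed_restrict φ rfl hE)
      obtain ⟨t, ht⟩ := hV.kerCoker (killed_restrict φ rfl hE) (isCohFormal_restrict φ rfl hG)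
      refine ⟨V, φ, hφ, y, hy, t, fun n => ?_⟩
      have h2 := αmap_restrict φ rfl hG hE β hc
      rw [← h2] at ht
      have h3 := ht n
      have hp : PreservesFiniteLimits (Scheme.Modules.restrictFunctor φ) :=
        PreservesLimits.preservesFiniteLimits _
      have hi : IsIso ((resIso φ rfl I E).hom.app (op n)) := inferInstance
      constructor
      · exact killedBy_of_iso ((kernelCompMono ((Scheme.Modules.restrictFunctor φ).map
          ((αmap hG β).app (op n))) ((resIso φ rfl I E).hom.app (op n))) ≪≫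
          (PreservesKernel.iso (Scheme.Modules.restrictFunctor φ) ((αmap hG β).app (op n))).symm) h3.1
      · exact killedBy_of_iso ((cokernelCompIsIso ((Scheme.Modules.restrictFunctor φ).map
          ((αmap hG β).app (op n))) ((resIso φ rfl I E).hom.app (op n))) ≪≫
          (PreservesCokernel.iso (Scheme.Modules.restrictFunctor φ) ((αmap hG β).app (op n))).symm) h3.2
    obtain ⟨t, ht⟩ := exists_uniform (X := X)
      (fun V φ _ t => ∀ n : ℕ, @Formal.KilledBy A _ V ⟨φ ≫ (X ↘ Spec (CommRingCat.of A))⟩ (I ^ (t + 1))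
            ((Scheme.Modules.restrictFunctor φ).obj (kernel ((αmap hG β).app (op n)))) ∧
          @Formal.KilledBy A _ V ⟨φ ≫ (X ↘ Spec (CommRingCat.of A))⟩ (I ^ (t + 1))
            ((Scheme.Modules.restrictFunctor φ).obj (cokernel ((αmap hG β).app (op n)))))
      (fun V φ _ a b hab ha n => by
        letI : V.Over (Spec (CommRingCat.of A)) := ⟨φ ≫ (X ↘ Spec (CommRingCat.of A))⟩
        exact ⟨killedBy_of_le (Ideal.pow_le_pow_right (by omega)) (ha n).1,
          killedBy_of_le (Ideal.pow_le_pow_right (by omega)) (ha n).2⟩) key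
    refine ⟨t, fun n => ⟨killedBy_of_restrict _ fun x => ?_, killedBy_of_restrict _ fun x => ?_⟩⟩
    · obtain ⟨V, φ, hφ, y, hy, h0⟩ := ht x
      exact ⟨V, φ, hφ, y, hy, (h0 n).1⟩
    · obtain ⟨V, φ, hφ, y, hy, h0⟩ := ht x
      exact ⟨V, φ, hφ, y, hy, (h0 n).2⟩
  · refine isProIso_can hE fun x => ?_
    obtain ⟨V, φ, hφ, y, hy, hV⟩ := h x
    letI : V.Over (Spec (CommRingCat.of A)) := ⟨φ ≫ (X ↘ Spec (CommRingCat.of A))⟩
    have : IsLocallyNoetherian V := isLocallyNoetherian_of_isOpenImmersion φ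
    exact ⟨V, φ, hφ, y, hy, killed_restrict φ rfl hE, hV.isProIso_can _⟩

end

end K164.Glob
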