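import Groth.Agent.Algz.K164.ProCrit
import Groth.Agent.Algz.K573.Compl
import Groth.Agent.FormalB.LimAff
import Groth.Agent.PerfA.CohSerre
import Groth.Agent.PerfA.Restrict

/-!
# Gluing: systems which are locally pro-isomorphic to coherent formal modules

If `E` is an inverse system of modules on `X` which, locally on `X`, is pro-isomorphic to a coherent formal
module, then the completion of the limit of `E` is a coherent formal module.
-/

set_option autoImplicit false
universe u

open CategoryTheory CategoryTheory.Limits AlgebraicGeometry Opposite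
open Groth.Agent.FormalB Groth.Agent.FormalB.ModPow

namespace K164.LocPro

/-- Pro-isomorphic systems have isomorphic limits. -/
theorem nonempty_limit_iso {C : Type*} [Category C] [HasLimitsOfShape ℕᵒᵖ C] {X Y : ARSys.PS C}
    (h : Algz.IsProIsomorphic X Y) : Nonempty (limit X ≅ limit Y) := by
  obtain ⟨m, hm, hle, a, ha⟩ := h
  have h1 := ProCrit.isIso_limMap (ProCrit.isProIso_reπ X hm hle)
  have h2 := ProCrit.isIso_limMap ha
  exact ⟨(asIso (limMap (K573.ProIso.reπ X hm hle))).symm ≪≫ asIso (limMap a)⟩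

section

variable {A : Type u} [CommRing A] {X : Scheme.{u}} [X.Over (Spec (CommRingCat.of A))]

/-- The completion of the limit of a system pro-isomorphic to a coherent formal module. -/
theorem nonempty_completion_iso [IsLocallyNoetherian X] {I : Ideal A} {E G : ℕᵒᵖ ⥤ X.Modules}
    (hG : Formal.IsCohFormal I G) (h : Algz.IsProIsomorphic E G) :
    Nonempty (Formal.completion I (limit E) ≅ G) := by
  obtain ⟨e⟩ := nonempty_limit_iso h
  exact ⟨K573.Compl.completionMapIso I e ≪≫
    LimAff.completionLimitIso (LimAff.isQCohFormal_of_isCohFormal hG)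
      (LimAff.fg_of_isLocallyNoetherian I)⟩

theorem preservesLimitsNat {V : Scheme.{u}} (φ : V ⟶ X) [IsOpenImmersion φ] :
    PreservesLimitsOfShape ℕᵒᵖ (Scheme.Modules.restrictFunctor φ) := by
  have h1 : PreservesLimits (Scheme.Modules.restrictFunctor φ) :=
    Groth.Agent.PerfA.Restrict.preservesLimits_restrictFunctor φ
  exact preservesLimitsOfShape_of_equiv
    ((ULiftHomULiftCategory.equiv.{u, u} ℕᵒᵖ)).symm (Scheme.Modules.restrictFunctor φ)

/-- Restriction of the completion of a limit. -/
theorem nonempty_restrict_iso {V : Scheme.{u}} (φ : V ⟶ X) [IsOpenImmersion φ]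
    [V.Over (Spec (CommRingCat.of A))]
    (hφ : φ ≫ (X ↘ Spec (CommRingCat.of A)) = V ↘ Spec (CommRingCat.of A)) (I : Ideal A)
    (E : ℕᵒᵖ ⥤ X.Modules) :
    Nonempty (Formal.completion I (limit E) ⋙ Scheme.Modules.restrictFunctor φ ≅
      Formal.completion I (limit (E ⋙ Scheme.Modules.restrictFunctor φ))) :=
  have := preservesLimitsNat φ
  ⟨(K573.Compl.restrictCompletionIso φ hφ I (limit E)).symm ≪≫
    K573.Compl.completionMapIso I (preservesLimitIso (Scheme.Modules.restrictFunctor φ) E)⟩

/-- A system which is locally pro-isomorphic to coherent formal modules: the completion of its limit is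
a coherent formal module. -/
theorem isCohFormal_completion_limit [IsLocallyNoetherian X] (I : Ideal A) (E : ℕᵒᵖ ⥤ X.Modules)
    (h : ∀ x : X, ∃ (V : Scheme.{u}) (φ : V ⟶ X) (_ : IsOpenImmersion φ) (G : ℕᵒᵖ ⥤ V.Modules),
      x ∈ Set.range φ.base ∧
      @Formal.IsCohFormal A _ V ⟨φ ≫ (X ↘ Spec (CommRingCat.of A))⟩ I G ∧
      Algz.IsProIsomorphic (E ⋙ Scheme.Modules.restrictFunctor φ) G) :
    Formal.IsCohFormal I (Formal.completion I (limit E)) := by
  rw [isCohFormal_iff]
  refine ⟨fun n => Groth.Agent.PerfA.CohSerre.isCoh_of_restrict _ fun x => ?_,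
    isFormal_completion I _⟩
  obtain ⟨V, φ, hφ, G, hx, hG, hE⟩ := h x
  letI : V.Over (Spec (CommRingCat.of A)) := ⟨φ ≫ (X ↘ Spec (CommRingCat.of A))⟩
  have : IsLocallyNoetherian V := isLocallyNoetherian_of_isOpenImmersion φ
  obtain ⟨e1⟩ := nonempty_restrict_iso φ rfl I E
  obtain ⟨e2⟩ := nonempty_completion_iso hG hE
  have h1 : Coh.IsCoh ((Scheme.Modules.restrictFunctor φ).obj
      ((Formal.completion I (limit E)).obj (op n))) :=
    Groth.Agent.PerfA.CohSerre.isCoh_of_iso ((e1 ≪≫ e2).symm.app (op n)) (hG.1 n)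
  refine ⟨φ.opensRange, by simpa using hx, ?_⟩
  refine Groth.Agent.PerfA.CohSerre.isCoh_of_iso ?_
    (Groth.Agent.PerfA.CohSerre.isCoh_restrict φ.isoOpensRange.inv h1)
  exact ((Scheme.Modules.restrictFunctorComp φ.isoOpensRange.inv φ).symm ≪≫
    Scheme.Modules.restrictFunctorCongr (by simp)).app _

/-- Extension of a coherent formal module from an open, when its direct image is locally
pro-isomorphic to coherent formal modules. -/
theorem extends_of_local [IsLocallyNoetherian X] (I : Ideal A) (U : X.Opens)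
    (H : ℕᵒᵖ ⥤ (U : Scheme.{u}).Modules) (hH : Formal.IsCohFormal I H)
    (h : ∀ x : X, ∃ (V : Scheme.{u}) (φ : V ⟶ X) (_ : IsOpenImmersion φ) (G : ℕᵒᵖ ⥤ V.Modules),
      x ∈ Set.range φ.base ∧
      @Formal.IsCohFormal A _ V ⟨φ ≫ (X ↘ Spec (CommRingCat.of A))⟩ I G ∧
      Algz.IsProIsomorphic
        ((H ⋙ Scheme.Modules.pushforward U.ι) ⋙ Scheme.Modules.restrictFunctor φ) G) :
    Algz.Extends I U H := by
  refine ⟨_, isCohFormal_completion_limit I _ h, ?_⟩
  obtain ⟨e1⟩ := nonempty_restrict_iso (A := A) U.ι rfl I (H ⋙ Scheme.Modules.pushforward U.ι)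
  have e2 : (H ⋙ Scheme.Modules.pushforward U.ι) ⋙ Scheme.Modules.restrictFunctor U.ι ≅ H :=
    Functor.isoWhiskerLeft H (asIso (Scheme.Modules.restrictAdjunction U.ι).counit) ≪≫
      Functor.rightUnitor _
  exact ⟨e1 ≪≫ K573.Compl.completionMapIso I (HasLimit.isoOfNatIso e2) ≪≫
    LimAff.completionLimitIso (LimAff.isQCohFormal_of_isCohFormal hH)
      (LimAff.fg_of_isLocallyNoetherian I)⟩

end

end K164.LocPro
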