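import Groth.Agent.Algz.K164.EndB
import Groth.Agent.Algz.K164.Chart
import Groth.Agent.Algz.K164.Glob
import Groth.Agent.Algz.K164.DeltaImm
import Groth.Agent.Algz.K572.FacCanon
import Groth.Agent.Sga2lef.H94.StalkDepth
import Groth.Agent.Dcoh.StalkRestrict

/-!
# Extension over a modification from the factorization condition
-/

set_option autoImplicit false
attribute [-instance] AlgebraicGeometry.specOverSpec
universe u

open CategoryTheory CategoryTheory.Limits AlgebraicGeometry Opposite TopologicalSpace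

namespace K164.MainA

/-- The distance on the charts is at least the distance on the modification. -/
theorem chart_delta {A B : Type u} [CommRing A] [CommRing B] [Algebra A B] (I : Ideal A)
    {X' : Scheme.{u}} (b : X' ⟶ Spec (CommRingCat.of A)) (φ : Spec (CommRingCat.of B) ⟶ X')
    [IsOpenImmersion φ] (hφ : φ ≫ b = Spec.map (CommRingCat.ofHom (algebraMap A B))) (U₁ : X'.Opens)
    (p : PrimeSpectrum B)
    (hp : p ∈ PrimeSpectrum.zeroLocus (R := B) (I.map (algebraMap A B) : Set B))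
    (hp' : b (φ p) ∈ PrimeSpectrum.zeroLocus (R := A) I) :
    Algz.deltaZ (Y := {x : X' // b x ∈ PrimeSpectrum.zeroLocus (R := A) I}) {x | x.1 ∉ U₁}
        ⟨φ p, hp'⟩ ≤
      Algz.deltaYZ B (I.map (algebraMap A B)) (φ ⁻¹ᵁ U₁) ⟨p, hp⟩ := by
  have hb : ∀ q : Spec (CommRingCat.of B), b (φ q) ∈ PrimeSpectrum.zeroLocus (R := A) I ↔
      q ∈ PrimeSpectrum.zeroLocus (R := B) (I.map (algebraMap A B) : Set B) := by
    intro q
    have h1 : b (φ q) = Spec.map (CommRingCat.ofHom (algebraMap A B)) q := by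
      rw [← Scheme.Hom.comp_apply, hφ]
    rw [h1]
    have h2 : (Spec.map (CommRingCat.ofHom (algebraMap A B)) q ∈
        PrimeSpectrum.zeroLocus (R := A) (I : Set A)) ↔ I ≤ q.asIdeal.comap (algebraMap A B) :=
      Iff.rfl
    have h3 : (q ∈ PrimeSpectrum.zeroLocus (R := B) (I.map (algebraMap A B) : Set B)) ↔
        I.map (algebraMap A B) ≤ q.asIdeal := Iff.rfl
    rw [h2, h3, Ideal.map_le_iff_le_comap]
  let f : PrimeSpectrum.zeroLocus (R := B) (I.map (algebraMap A B) : Set B) →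
      {x : X' // b x ∈ PrimeSpectrum.zeroLocus (R := A) I} :=
    fun q => ⟨φ q.1, (hb q.1).2 q.2⟩
  have hf : Topology.IsInducing f := by
    have h1 : Topology.IsInducing (Subtype.val ∘ f) := by
      have h2 : Subtype.val ∘ f = φ ∘ (Subtype.val :
          PrimeSpectrum.zeroLocus (R := B) (I.map (algebraMap A B) : Set B) → PrimeSpectrum B) := rfl
      rw [h2]
      exact φ.isOpenEmbedding.isInducing.comp Topology.IsInducing.subtypeVal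
    exact (Topology.IsInducing.subtypeVal.of_comp_iff).1 h1
  exact K572.Dist.deltaZ_le_of_inducing hf (fun v y hy => by
    have h1 : y.1 ⤳ φ v.1 := hy.map continuous_subtype_val
    have h2 : y.1 ∈ φ.opensRange := h1.mem_open φ.opensRange.2 ⟨v.1, rfl⟩
    obtain ⟨q, hq⟩ := h2
    refine ⟨⟨q, (hb q).1 ?_⟩, Subtype.ext hq⟩
    rw [hq]
    exact y.2) _ ⟨p, hp⟩

/-- The chart condition from the factorization condition. -/
theorem chart (A : Type u) [CommRing A] [IsNoetherianRing A] (I 𝔞 : Ideal A)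
    (hI𝔞 : I ≤ 𝔞) {X' : Scheme.{u}} [X'.Over (Spec (CommRingCat.of A))]
    (b : X' ⟶ Spec (CommRingCat.of A)) (hXb : X' ↘ Spec (CommRingCat.of A) = b)
    (H : ℕᵒᵖ ⥤ ((b ⁻¹ᵁ LocCoh.puncturedOpen A 𝔞 : X'.Opens) : Scheme.{u}).Modules)
    (hH : Formal.IsCohFormal I H)
    (hfac : ∀ n : ℕ, ∃ (m : ℕ) (h : n ≤ m)
      (E : ((b ⁻¹ᵁ LocCoh.puncturedOpen A 𝔞 : X'.Opens) : Scheme.{u}).Modules)
      (a : H.obj (op m) ⟶ E) (c : E ⟶ H.obj (op n)),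
      a ≫ c = H.map (homOfLE h).op ∧ Coh.IsCoh E ∧
      ∀ (y : ((b ⁻¹ᵁ LocCoh.puncturedOpen A 𝔞 : X'.Opens) : Scheme.{u}))
        (hy : b ((b ⁻¹ᵁ LocCoh.puncturedOpen A 𝔞).ι y) ∈ PrimeSpectrum.zeroLocus (R := A) I),
        (3 : ℕ∞) ≤ LocCoh.depth
            (((b ⁻¹ᵁ LocCoh.puncturedOpen A 𝔞 : X'.Opens) : Scheme.{u}).presheaf.stalk y)
            (E.presheaf.stalk y) +
          Algz.deltaZ (Y := {x : X' // b x ∈ PrimeSpectrum.zeroLocus (R := A) I})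
            {x | x.1 ∉ b ⁻¹ᵁ LocCoh.puncturedOpen A 𝔞}
            ⟨(b ⁻¹ᵁ LocCoh.puncturedOpen A 𝔞).ι y, hy⟩)
    (B : Type u) [CommRing B] [Algebra A B] [IsNoetherianRing B]
    (hdc : ∃ ω : Dual.D B, Dual.IsDualizing B ω)
    (hcd : LocCoh.CdLE B (I.map (algebraMap A B)) 1)
    (φ : Spec (CommRingCat.of B) ⟶ X') [IsOpenImmersion φ]
    (hφ : φ ≫ b = Spec.map (CommRingCat.ofHom (algebraMap A B))) :
    Algz.CanonicallyExtends B (I.map (algebraMap A B)) (φ ⁻¹ᵁ (b ⁻¹ᵁ LocCoh.puncturedOpen A 𝔞))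
      (H ⋙ Scheme.Modules.restrictFunctor (φ ∣_ (b ⁻¹ᵁ LocCoh.puncturedOpen A 𝔞))) := by
  have hV : φ ⁻¹ᵁ (b ⁻¹ᵁ LocCoh.puncturedOpen A 𝔞) =
      LocCoh.puncturedOpen B (𝔞.map (algebraMap A B)) := by
    rw [← Scheme.Hom.comp_preimage, hφ]
    ext q
    have h2 : (Spec.map (CommRingCat.ofHom (algebraMap A B)) q ∈
        PrimeSpectrum.zeroLocus (R := A) (𝔞 : Set A)) ↔ 𝔞 ≤ q.asIdeal.comap (algebraMap A B) :=
      Iff.rfl
    have h3 : (q ∈ PrimeSpectrum.zeroLocus (R := B) (𝔞.map (algebraMap A B) : Set B)) ↔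
        𝔞.map (algebraMap A B) ≤ q.asIdeal := Iff.rfl
    change ¬ (Spec.map (CommRingCat.ofHom (algebraMap A B)) q ∈
        PrimeSpectrum.zeroLocus (R := A) (𝔞 : Set A)) ↔
      ¬ (q ∈ PrimeSpectrum.zeroLocus (R := B) (𝔞.map (algebraMap A B) : Set B))
    rw [h2, h3, Ideal.map_le_iff_le_comap]
  have main : ∀ (V : (Spec (CommRingCat.of B)).Opens)
      (_ : V = LocCoh.puncturedOpen B (𝔞.map (algebraMap A B)))
      (G : ℕᵒᵖ ⥤ (V : Scheme.{u}).Modules) (_ : Formal.IsCohFormal (I.map (algebraMap A B)) G)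
      (_ : ∀ n : ℕ, ∃ (m : ℕ) (h : n ≤ m) (E : (V : Scheme.{u}).Modules)
        (a : G.obj (op m) ⟶ E) (c : E ⟶ G.obj (op n)),
        a ≫ c = G.map (homOfLE h).op ∧ Coh.IsCoh E ∧
        ∀ (y : (V : Scheme.{u}))
          (hy : V.ι.base y ∈ PrimeSpectrum.zeroLocus (R := B) (I.map (algebraMap A B) : Set B)),
          (3 : ℕ∞) ≤ LocCoh.depth ((V : Scheme.{u}).presheaf.stalk y)
            (E.presheaf.stalk y) + Algz.deltaYZ B (I.map (algebraMap A B)) V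
              ⟨V.ι.base y, hy⟩),
      Algz.CanonicallyExtends B (I.map (algebraMap A B)) V G := by
    intro V hV G hG hfac
    subst hV
    exact K572.FacCanon.main hdc _ _ (Ideal.map_mono hI𝔞) hcd G hG hfac
  have hcomm : (φ ∣_ (b ⁻¹ᵁ LocCoh.puncturedOpen A 𝔞)) ≫ (b ⁻¹ᵁ LocCoh.puncturedOpen A 𝔞).ι =
      (φ ⁻¹ᵁ (b ⁻¹ᵁ LocCoh.puncturedOpen A 𝔞)).ι ≫ φ := morphismRestrict_ι _ _
  refine main _ hV _ ?_ fun n => ?_
  · letI : ((φ ⁻¹ᵁ (b ⁻¹ᵁ LocCoh.puncturedOpen A 𝔞) : (Spec (CommRingCat.of B)).Opens) :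
        Scheme.{u}).Over (Spec (CommRingCat.of A)) :=
      ⟨(((φ ⁻¹ᵁ (b ⁻¹ᵁ LocCoh.puncturedOpen A 𝔞) : (Spec (CommRingCat.of B)).Opens) :
        Scheme.{u}) ↘ Spec (CommRingCat.of B)) ≫ Spec.map (CommRingCat.ofHom (algebraMap A B))⟩
    have hc : K573.BaseRing.Compat A B
        ((φ ⁻¹ᵁ (b ⁻¹ᵁ LocCoh.puncturedOpen A 𝔞) : (Spec (CommRingCat.of B)).Opens) :
          Scheme.{u}) := rfl
    refine (K573.BaseRing.isCohFormal_iff_map hc _ I).1 (Glob.isCohFormal_restrict _ ?_ hH)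
    change (φ ∣_ (b ⁻¹ᵁ LocCoh.puncturedOpen A 𝔞)) ≫ (b ⁻¹ᵁ LocCoh.puncturedOpen A 𝔞).ι ≫
      (X' ↘ Spec (CommRingCat.of A)) = ((φ ⁻¹ᵁ (b ⁻¹ᵁ LocCoh.puncturedOpen A 𝔞)).ι ≫ 𝟙 _) ≫
        Spec.map (CommRingCat.ofHom (algebraMap A B))
    rw [hXb, ← Category.assoc, hcomm, Category.assoc, hφ, Category.comp_id]
  · obtain ⟨m, h, E, a, c, hac, hE, hd⟩ := hfac n
    refine ⟨m, h, (Scheme.Modules.restrictFunctor (φ ∣_ (b ⁻¹ᵁ LocCoh.puncturedOpen A 𝔞))).obj E,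
      (Scheme.Modules.restrictFunctor (φ ∣_ (b ⁻¹ᵁ LocCoh.puncturedOpen A 𝔞))).map a,
      (Scheme.Modules.restrictFunctor (φ ∣_ (b ⁻¹ᵁ LocCoh.puncturedOpen A 𝔞))).map c, ?_,
      Groth.Agent.PerfA.CohSerre.isCoh_restrict _ hE, fun y hy => ?_⟩
    · rw [← Functor.map_comp, hac]
      rfl
    · have h1 : (b ⁻¹ᵁ LocCoh.puncturedOpen A 𝔞).ι ((φ ∣_ (b ⁻¹ᵁ LocCoh.puncturedOpen A 𝔞)) y) =
          φ ((φ ⁻¹ᵁ (b ⁻¹ᵁ LocCoh.puncturedOpen A 𝔞)).ι y) := by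
        rw [← Scheme.Hom.comp_apply, hcomm, Scheme.Hom.comp_apply]
      have h2 : b (φ ((φ ⁻¹ᵁ (b ⁻¹ᵁ LocCoh.puncturedOpen A 𝔞)).ι y)) ∈
          PrimeSpectrum.zeroLocus (R := A) I := by
        rw [← Scheme.Hom.comp_apply, hφ]
        exact Ideal.map_le_iff_le_comap.1 hy
      have h3 : b ((b ⁻¹ᵁ LocCoh.puncturedOpen A 𝔞).ι ((φ ∣_ (b ⁻¹ᵁ LocCoh.puncturedOpen A 𝔞)) y)) ∈
          PrimeSpectrum.zeroLocus (R := A) I := by
        rw [h1]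
        exact h2
      have h4 := hd _ h3
      rw [Groth.Agent.Sga2lef.H94.StalkDepth.depth_restrict_stalk]
      refine h4.trans ?_
      gcongr
      have h5 : (⟨(b ⁻¹ᵁ LocCoh.puncturedOpen A 𝔞).ι ((φ ∣_ (b ⁻¹ᵁ LocCoh.puncturedOpen A 𝔞)) y), h3⟩ :
          {x : X' // b x ∈ PrimeSpectrum.zeroLocus (R := A) I}) =
          ⟨φ ((φ ⁻¹ᵁ (b ⁻¹ᵁ LocCoh.puncturedOpen A 𝔞)).ι y), h2⟩ := Subtype.ext h1
      rw [h5]
      exact chart_delta I b φ hφ _ _ hy h2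

end K164.MainA
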