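import Groth.Agent.Algz.K164.MainA
import Groth.Agent.Algz.K164.Cov
import Groth.Agent.Algz.K572.ImpMain
import Groth.Agent.Algz.K710.Star
import Groth.Agent.Algz.K710.CoheightOne
import Groth.Agent.Algz.K573.BlowGeo

/-!
# Algebraization over a blow-up with small fibres
-/

set_option autoImplicit false
attribute [-instance] AlgebraicGeometry.specOverSpec
universe u

open CategoryTheory CategoryTheory.Limits AlgebraicGeometry Opposite TopologicalSpace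
open Groth.Agent.FormalB.ModPow K164.Cov

namespace K164.MainB

theorem arith1 {D C e : ℕ∞} (h : ((3 : ℕ) : ℕ∞) < D + C + e) (hC : C ≤ 1) (he : e ≤ 2) :
    ((0 : ℕ) : ℕ∞) < D + 0 := by
  rw [add_zero]
  by_contra hcon
  rw [not_lt] at hcon
  have h1 : D + C + e ≤ ((0 : ℕ) : ℕ∞) + 1 + 2 := by gcongr
  exact absurd (h.trans_le h1) (by norm_num)

theorem arith2 {D C e : ℕ∞} (h : ((3 : ℕ) : ℕ∞) < D + C + e) (hC : C ≤ 1) (he : e ≤ 1) :
    ((1 : ℕ) : ℕ∞) < D + 0 := by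
  rw [add_zero]
  by_contra hcon
  rw [not_lt] at hcon
  have h1 : D + C + e ≤ ((1 : ℕ) : ℕ∞) + 1 + 1 := by gcongr
  exact absurd (h.trans_le h1) (by norm_num)

theorem arith3 {D C e : ℕ∞} (h : ((3 : ℕ) : ℕ∞) < D + C + e) (he : e ≤ 1) :
    ((1 + 1 : ℕ) : ℕ∞) < D + C + 0 := by
  rw [add_zero]
  by_contra hcon
  rw [not_lt] at hcon
  have h1 : D + C + e ≤ ((1 + 1 : ℕ) : ℕ∞) + 1 := by gcongr
  exact absurd (h.trans_le h1) (by norm_num)

theorem arith4 {D e : ℕ∞} (h1 : 1 ≤ e) (h2 : e ≤ 2 → 1 ≤ D) (h3 : e ≤ 1 → 2 ≤ D) : 3 ≤ D + e := by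
  by_cases he1 : e ≤ 1
  · calc (3 : ℕ∞) = 2 + 1 := by norm_num
      _ ≤ D + e := add_le_add (h3 he1) h1
  · have he1' : (2 : ℕ∞) ≤ e := by
      have := Order.add_one_le_of_lt (not_le.1 he1)
      calc (2 : ℕ∞) = 1 + 1 := by norm_num
        _ ≤ e := this
    by_cases he2 : e ≤ 2
    · calc (3 : ℕ∞) = 1 + 2 := by norm_num
        _ ≤ D + e := add_le_add (h2 he2) he1'
    · have he2' : (3 : ℕ∞) ≤ e := by
        have := Order.add_one_le_of_lt (not_le.1 he2)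
        calc (3 : ℕ∞) = 2 + 1 := by norm_num
          _ ≤ e := this
      exact he2'.trans le_add_self

/-- **Algebraization over a modification with small fibres.** -/
theorem main (A : Type u) [CommRing A] [IsNoetherianRing A]
    (hdc : ∃ ω : Dual.D A, Dual.IsDualizing A ω) (I J 𝔞 : Ideal A) (hI𝔞 : I ≤ 𝔞)
    (hIJ : I.radical = J.radical)
    (G : ℕᵒᵖ ⥤ (↑(LocCoh.puncturedOpen A 𝔞) : Scheme.{u}).Modules)
    (hG : Formal.IsCohFormal I G) (d : ℕ) (X' : Scheme.{u}) (b : X' ⟶ Spec (CommRingCat.of A))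
    [IsProper b] (hb : IsIso (b ∣_ LocCoh.puncturedOpen A I)) (hch : HasCharts J b)
    (hfib : ∀ x : (Spec (CommRingCat.of A)),
      topologicalKrullDim ↑(pullback b ((Spec (CommRingCat.of A)).fromSpecResidueField x)) + 1 ≤
        (d : WithBot ℕ∞))
    (h3 : Algz.AbIneq A I (LocCoh.puncturedOpen A 𝔞) G (d + 1) (d + 2) ∨
      ∀ (y : (↑(LocCoh.puncturedOpen A 𝔞) : Scheme.{u}))
        (hy : (LocCoh.puncturedOpen A 𝔞).ι.base y ∈ PrimeSpectrum.zeroLocus (R := A) I),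
        ∀ P : PrimeSpectrum (Algz.hatRing I y), ¬ Algz.hatIdeal I y ≤ P.asIdeal →
          ((d + 2 : ℕ) : ℕ∞) < Algz.depthAt P ↥(Algz.hatStalk I G y) + Order.coheight P +
            Algz.deltaYZ A I (LocCoh.puncturedOpen A 𝔞)
              ⟨(LocCoh.puncturedOpen A 𝔞).ι.base y, hy⟩) :
    @Algz.Extends A _ (Spec (CommRingCat.of A)) ⟨𝟙 (Spec (CommRingCat.of A))⟩ I
      (LocCoh.puncturedOpen A 𝔞) G := by
  letI : X'.Over (Spec (CommRingCat.of A)) := ⟨b⟩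
  have hXb : X' ↘ Spec (CommRingCat.of A) = b := rfl
  have nA : IsNoetherian (Spec (CommRingCat.of A)) := inferInstance
  have lX : IsLocallyNoetherian X' := LocallyOfFiniteType.isLocallyNoetherian b
  have cX : CompactSpace X' := QuasiCompact.compactSpace_of_compactSpace b
  have nX : IsNoetherian X' := {}
  have nU : IsNoetherian ((b ⁻¹ᵁ LocCoh.puncturedOpen A 𝔞 : X'.Opens) : Scheme.{u}) :=
    K573.EquivBC.isNoetherian_opens _
  have hXU : ((b ⁻¹ᵁ LocCoh.puncturedOpen A 𝔞 : X'.Opens) : Scheme.{u}) ↘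
      Spec (CommRingCat.of A) = (b ⁻¹ᵁ LocCoh.puncturedOpen A 𝔞).ι ≫ b := rfl
  have hover : (b ∣_ LocCoh.puncturedOpen A 𝔞) ≫
      (((LocCoh.puncturedOpen A 𝔞 : (Spec (CommRingCat.of A)).Opens) : Scheme.{u}) ↘
        Spec (CommRingCat.of A)) =
      ((b ⁻¹ᵁ LocCoh.puncturedOpen A 𝔞 : X'.Opens) : Scheme.{u}) ↘ Spec (CommRingCat.of A) := by
    rw [hXU]
    exact morphismRestrict_ι b _
  have hcatA : CAlg.IsUniversallyCatenary A := by
    obtain ⟨ω, hω⟩ := hdc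
    exact Groth.Agent.S1721.result A ω hω
  have hcat : ∀ x : X', CAlg.IsCatenary (X'.presheaf.stalk x) := fun x => by
    have h1 := Groth.Agent.CycB.SetupLft.isUniversallyCatenary_stalk b
      (fun y => K710.Star.isUniversallyCatenary_stalk A hcatA y) x
    exact h1.2 _ inferInstance
  have hF : Formal.IsCohFormal I (G ⋙ Scheme.Modules.pullback (b ∣_ LocCoh.puncturedOpen A 𝔞)) := by
    rw [isCohFormal_iff] at hG ⊢
    exact ⟨fun n => Groth.Agent.FormalB.PullCoh.isCoh_pullback _ (hG.1 n),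
      Groth.Agent.FormalB.PullSys.pullback_isFormal _ hover hG.2⟩
  have hstar := K710.star A hdc I 𝔞 G hG d X' b hXb hb hfib h3
  have hS : StableUnderSpecialization
      {x : X' | b x ∈ PrimeSpectrum.zeroLocus (R := A) (I : Set A)} := by
    have h1 : IsClosed {x : X' | b x ∈ PrimeSpectrum.zeroLocus (R := A) (I : Set A)} :=
      (PrimeSpectrum.isClosed_zeroLocus _).preimage b.continuous
    exact h1.stableUnderSpecialization
  have hZ : IsClosed ({x | x.1 ∉ b ⁻¹ᵁ LocCoh.puncturedOpen A 𝔞} :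
      Set {x : X' // b x ∈ PrimeSpectrum.zeroLocus (R := A) I}) := by
    have h1 : IsClosed ((b ⁻¹ᵁ LocCoh.puncturedOpen A 𝔞 : Set X')ᶜ) :=
      (b ⁻¹ᵁ LocCoh.puncturedOpen A 𝔞).2.isClosed_compl
    exact h1.preimage continuous_subtype_val
  -- the two supports
  let Tk : ℕ∞ → Set ((b ⁻¹ᵁ LocCoh.puncturedOpen A 𝔞 : X'.Opens) : Scheme.{u}) := fun k =>
    {y | ∃ hy : b ((b ⁻¹ᵁ LocCoh.puncturedOpen A 𝔞).ι y) ∈ PrimeSpectrum.zeroLocus (R := A) I,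
      Algz.deltaZ (Y := {x : X' // b x ∈ PrimeSpectrum.zeroLocus (R := A) I})
        {x | x.1 ∉ b ⁻¹ᵁ LocCoh.puncturedOpen A 𝔞}
        ⟨(b ⁻¹ᵁ LocCoh.puncturedOpen A 𝔞).ι y, hy⟩ ≤ k}
  have hTk : ∀ k, StableUnderSpecialization (Tk k) := by
    rintro k x y hxy ⟨hx, hk⟩
    have h1 : (b ⁻¹ᵁ LocCoh.puncturedOpen A 𝔞).ι x ⤳ (b ⁻¹ᵁ LocCoh.puncturedOpen A 𝔞).ι y :=
      hxy.map (b ⁻¹ᵁ LocCoh.puncturedOpen A 𝔞).ι.continuous
    have hy := hS h1 hx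
    refine ⟨hy, le_trans ?_ hk⟩
    exact K572.Dist.deltaZ_le_of_specializes hZ
      (Topology.IsInducing.subtypeVal.specializes_iff.1 h1)
  have hT12 : Tk 1 ⊆ Tk 2 := fun y ⟨hy, hk⟩ => ⟨hy, hk.trans (by norm_num)⟩
  have hpr : ∀ y : ((b ⁻¹ᵁ LocCoh.puncturedOpen A 𝔞 : X'.Opens) : Scheme.{u}),
      (Algz.stalkIdeal J y).IsPrincipal := by
    intro y
    refine K710.CoheightOne.isPrincipal_stalkIdeal_of_hom J (b ⁻¹ᵁ LocCoh.puncturedOpen A 𝔞).ι rfl y ?_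
    obtain ⟨B, _, _, φ, _, t, ⟨z, hz⟩, hφ, ht⟩ := hch ((b ⁻¹ᵁ LocCoh.puncturedOpen A 𝔞).ι y)
    have h1 := K710.CoheightOne.isPrincipal_stalkIdeal_of_chart (X := X') J (algebraMap A B)
      (by rw [ht]; exact ⟨t, rfl⟩) φ hφ z
    have hz' : φ z = (b ⁻¹ᵁ LocCoh.puncturedOpen A 𝔞).ι y := hz
    rw [← hz']
    exact h1
  have hyI : ∀ y : ((b ⁻¹ᵁ LocCoh.puncturedOpen A 𝔞 : X'.Opens) : Scheme.{u}),
      b ((b ⁻¹ᵁ LocCoh.puncturedOpen A 𝔞).ι y) ∈ PrimeSpectrum.zeroLocus (R := A) I →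
      I ≤ ((((b ⁻¹ᵁ LocCoh.puncturedOpen A 𝔞 : X'.Opens) : Scheme.{u}) ↘
        Spec (CommRingCat.of A)).base y).asIdeal := by
    intro y hy
    rw [hXU]
    exact hy
  obtain ⟨H, α, hH, hα, hfac⟩ := K572.ImpMain.main (X := ((b ⁻¹ᵁ LocCoh.puncturedOpen A 𝔞 :
      X'.Opens) : Scheme.{u})) hF (hTk 2) (hTk 1) hT12 1 (by
      rintro y ⟨hy, hk⟩ P hP
      refine ⟨fun _ => Or.inl bot_le, fun hm => ?_⟩
      exact arith1 (hstar y hy P hP)
        (K710.CoheightOne.hat_coheight_le_one' hIJ y (hyI y hy) (hpr y) P hm) hk) (by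
      rintro y ⟨hy, hk⟩ P hP
      refine ⟨fun _ => Or.inr ?_, fun hm => ?_⟩
      · exact arith3 (hstar y hy P hP) hk
      · exact arith2 (hstar y hy P hP)
          (K710.CoheightOne.hat_coheight_le_one' hIJ y (hyI y hy) (hpr y) P hm) hk) (by
      rintro x y hxy hne himm ⟨hy, hk⟩ - hx
      have hx' : b ((b ⁻¹ᵁ LocCoh.puncturedOpen A 𝔞).ι x) ∈ PrimeSpectrum.zeroLocus (R := A) I := by
        rw [hXU] at hx
        exact hx
      refine ⟨hx', ?_⟩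
      refine (DeltaImm.deltaZ_imm hcat hS _ ⟨(b ⁻¹ᵁ LocCoh.puncturedOpen A 𝔞).ι x, hx'⟩
        ⟨(b ⁻¹ᵁ LocCoh.puncturedOpen A 𝔞).ι y, hy⟩
        (hxy.map (b ⁻¹ᵁ LocCoh.puncturedOpen A 𝔞).ι.continuous)
        (fun h => hne ((b ⁻¹ᵁ LocCoh.puncturedOpen A 𝔞).ι.isOpenEmbedding.injective h))
        fun z hxz hzy => ?_).trans ?_
      · have hz : z ∈ b ⁻¹ᵁ LocCoh.puncturedOpen A 𝔞 :=
          hzy.mem_open (b ⁻¹ᵁ LocCoh.puncturedOpen A 𝔞).2 y.2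
        have hi := (b ⁻¹ᵁ LocCoh.puncturedOpen A 𝔞).ι.isOpenEmbedding.isInducing
        rcases himm ⟨z, hz⟩ (hi.specializes_iff.1 hxz) (hi.specializes_iff.1 hzy) with h | h
        · exact Or.inl (congrArg (b ⁻¹ᵁ LocCoh.puncturedOpen A 𝔞).ι h)
        · exact Or.inr (congrArg (b ⁻¹ᵁ LocCoh.puncturedOpen A 𝔞).ι h)
      · refine (add_le_add_left hk 1).trans ?_
        norm_num) (hcov A hdc I J hIJ b hXb hch _)
  -- extension to `X'`
  have hext : Algz.Extends I (b ⁻¹ᵁ LocCoh.puncturedOpen A 𝔞) H := by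
    refine Chart.extends_of_canonicallyExtends I _ H hH fun x => ?_
    obtain ⟨B, _, _, φ, _, t, hx, hφ, ht⟩ := hch x
    obtain ⟨hdB, hcd, hNB⟩ := hcov_chart A hdc I J hIJ b B φ t hφ ht
    refine ⟨B, inferInstance, inferInstance, φ, inferInstance, hx, hφ, ?_⟩
    refine MainA.chart A I 𝔞 hI𝔞 b hXb H hH (fun n => ?_) B hdB hcd φ hφ
    obtain ⟨m, h, E, a, c, hac, hE, hd2, hd1⟩ := hfac n
    refine ⟨m, h, E, a, c, hac, hE, fun y hy => ?_⟩
    have h1 := K572.DeltaYZ.one_le_deltaZ (Z := ({x | x.1 ∉ b ⁻¹ᵁ LocCoh.puncturedOpen A 𝔞} :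
      Set {x : X' // b x ∈ PrimeSpectrum.zeroLocus (R := A) I}))
      (y := ⟨(b ⁻¹ᵁ LocCoh.puncturedOpen A 𝔞).ι y, hy⟩) (fun h => h y.2)
    exact arith4 h1 (fun h => hd2 y ⟨hy, h⟩) (fun h => hd1 y ⟨hy, h⟩)
  exact EndB.extends_of_modification A I _ G hG X' b hXb hb H hH α hα hext

end K164.MainB
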