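import Groth.Agent.Algz.K573.ProIso

/-!
# Pro-isomorphisms: kernels and cokernels, limits

* `isIso_limMap`: a levelwise pro-isomorphism induces an isomorphism of limits;
* `isProIso_reπ`: the canonical map from a re-indexing is a pro-isomorphism;
* `isProIso_of_kernel_cokernel`: in an abelian category, a levelwise map whose kernel and cokernel are
  pro-zero is a pro-isomorphism; `kernel_zero`, `cokernel_zero`: the converse, after applying a functor.
-/

set_option autoImplicit false
universe v u v' u'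

open CategoryTheory CategoryTheory.Limits Opposite

namespace K164.ProCrit

open K573.ProIso

section Lim

variable {C : Type u} [Category.{v} C] {X Y : ARSys.PS C}

theorem π_tr (X : ARSys.PS C) [HasLimit X] {n m : ℕ} (h : n ≤ m) :
    limit.π X (op m) ≫ ARSys.tr X h = limit.π X (op n) := limit.w X (homOfLE h).op

/-- Independence of the choice of a partial inverse. -/
theorem π_comp_eq [HasLimit Y] {a : X ⟶ Y} (ha : DerCA.IsProIso a) {n k k' : ℕ} (h : n ≤ k) (h' : n ≤ k')
    (b : Y.obj (op k) ⟶ X.obj (op n)) (b' : Y.obj (op k') ⟶ X.obj (op n))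
    (h1 : a.app (op k) ≫ b = ARSys.tr X h) (h1' : a.app (op k') ≫ b' = ARSys.tr X h') :
    limit.π Y (op k) ≫ b = limit.π Y (op k') ≫ b' := by
  obtain ⟨K, hkK, hkK'⟩ : ∃ K, k ≤ K ∧ k' ≤ K := ⟨max k k', le_max_left _ _, le_max_right _ _⟩
  obtain ⟨L, hL, c, hc1, hc2⟩ := ha K
  have key : ∀ (j : ℕ) (hj : n ≤ j) (hjK : j ≤ K) (d : Y.obj (op j) ⟶ X.obj (op n))
      (_ : a.app (op j) ≫ d = ARSys.tr X hj),
      limit.π Y (op j) ≫ d = limit.π Y (op L) ≫ c ≫ ARSys.tr X (hj.trans hjK) := by
    intro j hj hjK d hd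
    rw [← π_tr Y (hjK.trans hL), ← tr_trans Y hjK hL, ← hc2, Category.assoc, Category.assoc,
      Category.assoc, ← Category.assoc (a.app (op K)), ← tr_nat, Category.assoc, hd, tr_trans]
  rw [key k h hkK b h1, key k' h' hkK' b' h1']

/-- The inverse of `limMap` for a pro-isomorphism. -/
noncomputable def limInv [HasLimit X] [HasLimit Y] {a : X ⟶ Y} (ha : DerCA.IsProIso a) :
    limit Y ⟶ limit X :=
  limit.lift X
    { pt := limit Y
      π := NatTrans.ofOpSequence (F := (Functor.const ℕᵒᵖ).obj (limit Y)) (G := X)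
        (fun n => limit.π Y (op (ha n).choose) ≫ (ha n).choose_spec.choose_spec.choose)
        (fun n => by
          have h1 := (ha (n + 1)).choose_spec.choose_spec.choose_spec.1
          have h2 := (ha n).choose_spec.choose_spec.choose_spec.1
          have h3 := π_comp_eq ha
            ((Nat.le_succ n).trans (ha (n + 1)).choose_spec.choose) (ha n).choose_spec.choose
            ((ha (n + 1)).choose_spec.choose_spec.choose ≫ ARSys.tr X (Nat.le_succ n))
            (ha n).choose_spec.choose_spec.choose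
            (by rw [← Category.assoc, h1, tr_trans]) h2
          change 𝟙 _ ≫ _ = (_ ≫ _) ≫ ARSys.tr X (Nat.le_succ n)
          rw [Category.id_comp, Category.assoc]
          exact h3.symm) }

theorem limInv_π [HasLimit X] [HasLimit Y] {a : X ⟶ Y} (ha : DerCA.IsProIso a) (n : ℕ) :
    limInv ha ≫ limit.π X (op n) =
      limit.π Y (op (ha n).choose) ≫ (ha n).choose_spec.choose_spec.choose :=
  limit.lift_π _ _

/-- A levelwise pro-isomorphism induces an isomorphism of limits. -/
theorem isIso_limMap [HasLimit X] [HasLimit Y] {a : X ⟶ Y} (ha : DerCA.IsProIso a) :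
    IsIso (limMap a) := by
  refine ⟨limInv ha, ?_, ?_⟩
  · refine limit.hom_ext fun ⟨n⟩ => ?_
    rw [Category.assoc, limInv_π, ← Category.assoc, limMap_π, Category.assoc,
      (ha n).choose_spec.choose_spec.choose_spec.1, Category.id_comp]
    exact π_tr X _
  · refine limit.hom_ext fun ⟨n⟩ => ?_
    rw [Category.assoc, limMap_π, ← Category.assoc, limInv_π, Category.assoc,
      (ha n).choose_spec.choose_spec.choose_spec.2, Category.id_comp]
    exact π_tr Y _

/-- The canonical map from a re-indexing is a pro-isomorphism. -/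
theorem isProIso_reπ (X : ARSys.PS C) {m : ℕ → ℕ} (hm : Monotone m) (hle : ∀ n : ℕ, n ≤ m n) :
    DerCA.IsProIso (reπ X hm hle) := by
  intro n
  refine ⟨m n, hle n, 𝟙 (X.obj (op (m n))), ?_, ?_⟩
  · exact Category.comp_id (X.map (homOfLE (hle (m n))).op)
  · exact Category.id_comp (X.map (homOfLE (hle n)).op)

/-- A levelwise map which is a pro-isomorphism makes the systems pro-isomorphic. -/
theorem isProIsomorphic_of_isProIso {a : X ⟶ Y} (ha : DerCA.IsProIso a) :
    Algz.IsProIsomorphic X Y :=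
  ⟨id, monotone_id, fun _ => le_rfl, a, ha⟩

end Lim

section Abelian

variable {C : Type u} [Category.{v} C] [Abelian C] {X Y : ARSys.PS C}

/-- A levelwise map with pro-zero kernel and cokernel is a pro-isomorphism. -/
theorem isProIso_of_kernel_cokernel (a : X ⟶ Y)
    (hk : ∀ n : ℕ, ∃ (m : ℕ) (h : n ≤ m), kernel.ι (a.app (op m)) ≫ ARSys.tr X h = 0)
    (hc : ∀ n : ℕ, ∃ (m : ℕ) (h : n ≤ m), ARSys.tr Y h ≫ cokernel.π (a.app (op n)) = 0) :
    DerCA.IsProIso a := by
  intro n
  obtain ⟨p, hp, hpk⟩ := hk n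
  obtain ⟨m, hm, hmc⟩ := hc p
  let i : Abelian.image (a.app (op p)) ⟶ Y.obj (op p) := Abelian.image.ι (a.app (op p))
  let e : X.obj (op p) ⟶ Abelian.image (a.app (op p)) := Abelian.factorThruImage (a.app (op p))
  have hei : e ≫ i = a.app (op p) := Abelian.image.fac _
  let l : Y.obj (op m) ⟶ Abelian.image (a.app (op p)) :=
    kernel.lift (cokernel.π (a.app (op p))) (ARSys.tr Y hm) hmc
  have hli : l ≫ i = ARSys.tr Y hm := kernel.lift_ι _ _ _
  have hke : kernel.ι e ≫ ARSys.tr X hp = 0 := by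
    have h1 : kernel.ι e ≫ a.app (op p) = 0 := by
      have h0 : kernel.ι e ≫ e ≫ i = 0 := by rw [kernel.condition_assoc, zero_comp]
      rwa [hei] at h0
    rw [← kernel.lift_ι (a.app (op p)) (kernel.ι e) h1, Category.assoc, hpk, comp_zero]
  let d : Abelian.image (a.app (op p)) ⟶ X.obj (op n) := Abelian.epiDesc e (ARSys.tr X hp) hke
  have hed : e ≫ d = ARSys.tr X hp := Abelian.comp_epiDesc e _ hke
  refine ⟨m, hp.trans hm, l ≫ d, ?_, ?_⟩
  · have h1 : a.app (op m) ≫ l = ARSys.tr X hm ≫ e := by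
      rw [← cancel_mono i, Category.assoc, hli, Category.assoc, hei, tr_nat]
    rw [← Category.assoc, h1, Category.assoc, hed, tr_trans]
  · have h1 : d ≫ a.app (op n) = i ≫ ARSys.tr Y hp := by
      rw [← cancel_epi e, ← Category.assoc, hed, ← Category.assoc, hei, tr_nat]
    rw [Category.assoc, h1, ← Category.assoc, hli, tr_trans]

variable {D : Type u'} [Category.{v'} D] [Preadditive D] (L : C ⥤ D) [L.PreservesZeroMorphisms]

theorem kernel_zero {a : X ⟶ Y} (ha : DerCA.IsProIso (Functor.whiskerRight a L)) (n : ℕ) :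
    ∃ m₀ : ℕ, n ≤ m₀ ∧ ∀ (m : ℕ) (_ : m₀ ≤ m) (h : n ≤ m),
      L.map (kernel.ι (a.app (op m)) ≫ ARSys.tr X h) = 0 := by
  obtain ⟨m₀, h₀, b, h1, -⟩ := ha n
  refine ⟨m₀, h₀, fun m hm h => ?_⟩
  have h2 : kernel.ι (a.app (op m)) ≫ ARSys.tr X h =
      kernel.ι (a.app (op m)) ≫ ARSys.tr X hm ≫ ARSys.tr X h₀ := by rw [tr_trans]
  have h1' : L.map (a.app (op m₀)) ≫ b = L.map (ARSys.tr X h₀) := h1
  rw [h2, L.map_comp, L.map_comp, ← h1', ← Category.assoc (L.map (ARSys.tr X hm)), ← L.map_comp,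
    tr_nat, ← Category.assoc, ← L.map_comp, ← Category.assoc, kernel.condition, zero_comp,
    L.map_zero, zero_comp]

theorem cokernel_zero {a : X ⟶ Y} (ha : DerCA.IsProIso (Functor.whiskerRight a L)) (n : ℕ) :
    ∃ m₀ : ℕ, n ≤ m₀ ∧ ∀ (m : ℕ) (_ : m₀ ≤ m) (h : n ≤ m),
      L.map (ARSys.tr Y h ≫ cokernel.π (a.app (op n))) = 0 := by
  obtain ⟨m₀, h₀, b, -, h2⟩ := ha n
  refine ⟨m₀, h₀, fun m hm h => ?_⟩
  have h3 : ARSys.tr Y h = ARSys.tr Y hm ≫ ARSys.tr Y h₀ := by rw [tr_trans]
  have h2' : b ≫ L.map (a.app (op n)) = L.map (ARSys.tr Y h₀) := h2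
  rw [h3, Category.assoc, L.map_comp, L.map_comp, ← h2', Category.assoc, ← L.map_comp,
    cokernel.condition, L.map_zero, comp_zero, comp_zero]

end Abelian

end K164.ProCrit
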